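import Cfsg.Agent.Lib.Char.Burnside
import Mathlib.GroupTheory.Nilpotent
import Mathlib.GroupTheory.PGroup
import Mathlib.GroupTheory.Perm.Cycle.Type
import Mathlib.Algebra.Ring.Basic
import Mathlib.GroupTheory.Commutator.Basic
import Mathlib.GroupTheory.QuotientGroup.Basic

/-!
# Tools for offenders acting on perfect groups

Representations are monoid homomorphisms into the ring of additive endomorphisms.
-/

set_option autoImplicit false
set_option linter.style.haveILetI false

open Subgroup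
open scoped commutatorElement

namespace CfsgLib.OffComp

universe u v

variable {Γ : Type u} [Group Γ] {U : Type v} [AddCommGroup U]

/-- The fixed points of a subgroup. -/
def fixA (σ : Γ →* AddMonoid.End U) (H : Subgroup Γ) : AddSubgroup U where
  carrier := {u | ∀ h ∈ H, σ h u = u}
  zero_mem' := fun h _ => map_zero (σ h)
  add_mem' := fun hu hw h hh => by rw [map_add, hu h hh, hw h hh]
  neg_mem' := fun hu h hh => by rw [map_neg, hu h hh]

variable {σ : Γ →* AddMonoid.End U}

theorem mem_fixA {H : Subgroup Γ} {u : U} : u ∈ fixA σ H ↔ ∀ h ∈ H, σ h u = u := Iff.rfl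

theorem fixA_mono {H L : Subgroup Γ} (h : H ≤ L) : fixA σ L ≤ fixA σ H := fun _ hu x hx => hu x (h hx)

theorem fixA_sup {H L : Subgroup Γ} : fixA σ (H ⊔ L) = fixA σ H ⊓ fixA σ L := by
  refine le_antisymm (le_inf (fixA_mono le_sup_left) (fixA_mono le_sup_right)) ?_
  intro u hu g hg
  rw [sup_eq_closure] at hg
  induction hg using closure_induction with
  | mem x hx => exact hx.elim (hu.1 x) (hu.2 x)
  | one => rw [map_one]; rfl
  | mul x y _ _ hx hy =>
    show σ (x * y) u = u
    rw [map_mul, AddMonoid.End.coe_mul, Function.comp_apply, hy, hx]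
  | inv x _ hx =>
    have h1 : σ x⁻¹ (σ x u) = u := by
      rw [← Function.comp_apply (f := σ x⁻¹), ← AddMonoid.End.coe_mul, ← map_mul, inv_mul_cancel,
        map_one]; rfl
    rwa [hx] at h1

theorem apply_inv_apply (g : Γ) (u : U) : σ g⁻¹ (σ g u) = u := by
  rw [← Function.comp_apply (f := σ g⁻¹), ← AddMonoid.End.coe_mul, ← map_mul, inv_mul_cancel,
    map_one]; rfl

theorem apply_apply_inv (g : Γ) (u : U) : σ g (σ g⁻¹ u) = u := by
  simpa using apply_inv_apply (σ := σ) g⁻¹ u

theorem apply_mul (g h : Γ) (u : U) : σ (g * h) u = σ g (σ h u) := by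
  rw [map_mul, AddMonoid.End.coe_mul, Function.comp_apply]

theorem apply_injective (g : Γ) : Function.Injective (σ g) :=
  Function.LeftInverse.injective (apply_inv_apply g)

/-- The stabilizer of a point. -/
def stab (σ : Γ →* AddMonoid.End U) (u : U) : Subgroup Γ where
  carrier := {g | σ g u = u}
  one_mem' := by show σ 1 u = u; rw [map_one]; rfl
  mul_mem' := fun {g h} hg hh => by
    show σ (g * h) u = u
    rw [apply_mul, show σ h u = u from hh, show σ g u = u from hg]
  inv_mem' := fun {g} hg => by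
    show σ g⁻¹ u = u
    conv_lhs => rw [← show σ g u = u from hg, apply_inv_apply]

/-- The kernel of a monoid homomorphism from a group. -/
def kerM {M : Type*} [Monoid M] (f : Γ →* M) : Subgroup Γ where
  carrier := {x | f x = 1}
  one_mem' := map_one f
  mul_mem' := fun {x y} hx hy => by
    show f (x * y) = 1
    rw [map_mul, show f x = 1 from hx, show f y = 1 from hy, mul_one]
  inv_mem' := fun {x} hx => by
    show f x⁻¹ = 1
    have h := map_mul f x⁻¹ x
    rwa [inv_mul_cancel, map_one, show f x = 1 from hx, mul_one, eq_comm] at h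

theorem mem_kerM {M : Type*} [Monoid M] {f : Γ →* M} {x : Γ} : x ∈ kerM f ↔ f x = 1 := Iff.rfl

/-- A perfect subgroup with commuting image is killed. -/
theorem map_eq_one_of_comm {M : Type*} [Monoid M] (f : Γ →* M) {K : Subgroup Γ} (hK : ⁅K, K⁆ = K)
    (h : ∀ x ∈ K, ∀ y ∈ K, f x * f y = f y * f x) : ∀ x ∈ K, f x = 1 := by
  intro x hx
  rw [← hK] at hx
  refine (show ⁅K, K⁆ ≤ kerM f from commutator_le.2 fun y hy z hz => ?_) hx
  show f ⁅y, z⁆ = 1
  rw [commutatorElement_def, map_mul, map_mul, map_mul, h y hy z hz, mul_assoc (f z) (f y),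
    ← map_mul f y, mul_inv_cancel, map_one, mul_one, ← map_mul, mul_inv_cancel, map_one]

/-- A perfect subgroup whose image is solvable is killed. -/
theorem map_eq_one_of_solvable {G' : Type*} [Group G'] (f : Γ →* G') {K : Subgroup Γ}
    (hK : ⁅K, K⁆ = K) (h : Group.IsSolvable (K.map f)) : ∀ x ∈ K, f x = 1 := by
  intro x hx
  have hperf : ⁅K.map f, K.map f⁆ = K.map f := by rw [← map_commutator, hK]
  have htop : ⁅(⊤ : Subgroup (K.map f)), (⊤ : Subgroup (K.map f))⁆ = ⊤ := by
    apply Subgroup.map_injective (K.map f).subtype_injective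
    rw [Subgroup.map_commutator, ← MonoidHom.range_eq_map, range_subtype, hperf]
  have hser : ∀ n, derivedSeries (K.map f) n = ⊤ := by
    intro n
    induction n with
    | zero => exact derivedSeries_zero _
    | succ n ih => rw [derivedSeries_succ, ih, htop]
  obtain ⟨n, hn⟩ := (Group.isSolvable_def _).1 h
  rw [hser n] at hn
  have h1 : (⟨f x, mem_map_of_mem f hx⟩ : K.map f) ∈ (⊥ : Subgroup (K.map f)) := hn ▸ mem_top _
  exact congrArg Subtype.val (mem_bot.1 h1)

/-- A perfect subgroup whose image has `p`-power exponent is killed. -/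
theorem map_eq_one_of_pow {M : Type*} [Monoid M] [Finite M] (f : Γ →* M) {K : Subgroup Γ}
    (hK : ⁅K, K⁆ = K) {p : ℕ} [Fact p.Prime] (h : ∀ x ∈ K, ∃ k : ℕ, f x ^ p ^ k = 1) :
    ∀ x ∈ K, f x = 1 := by
  intro x hx
  haveI : Finite Mˣ := Finite.of_injective _ Units.val_injective
  have hP : IsPGroup p (K.map f.toHomUnits) := by
    rintro ⟨_, y, hy, rfl⟩
    obtain ⟨k, hk⟩ := h y hy
    exact ⟨k, Subtype.ext (Units.ext (by simpa [MonoidHom.coe_toHomUnits] using hk))⟩
  haveI := hP.isNilpotent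
  have := map_eq_one_of_solvable f.toHomUnits hK inferInstance x hx
  simpa [MonoidHom.coe_toHomUnits] using congrArg Units.val this

/-- A perfect subgroup whose image has element orders dividing a product of two prime powers is
killed. -/
theorem map_eq_one_of_pow_two {M : Type*} [Monoid M] [Finite M] (f : Γ →* M) {K : Subgroup Γ}
    (hK : ⁅K, K⁆ = K) (h : ∀ x ∈ K, f x ^ 6 = 1) : ∀ x ∈ K, f x = 1 := by
  intro x hx
  haveI : Finite Mˣ := Finite.of_injective _ Units.val_injective
  set P := K.map f.toHomUnits with hP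
  have h6 : ∀ z : P, z ^ 6 = 1 := by
    rintro ⟨_, y, hy, rfl⟩
    exact Subtype.ext (Units.ext (by simpa [MonoidHom.coe_toHomUnits] using h y hy))
  have hcard : ∃ a b : ℕ, Nat.card P = 2 ^ a * 3 ^ b := by
    have hne : Nat.card P ≠ 0 := Nat.card_pos.ne'
    have hpr : ∀ q : ℕ, q.Prime → q ∣ Nat.card P → q = 2 ∨ q = 3 := by
      intro q hq hd
      haveI : Fact q.Prime := ⟨hq⟩
      obtain ⟨z, hz⟩ := exists_prime_orderOf_dvd_card' q hd
      have hd6 : q ∣ 2 * 3 := hz ▸ orderOf_dvd_of_pow_eq_one (h6 z)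
      rcases (Nat.Prime.dvd_mul hq).1 hd6 with e | e
      · exact Or.inl ((Nat.prime_dvd_prime_iff_eq hq Nat.prime_two).1 e)
      · exact Or.inr ((Nat.prime_dvd_prime_iff_eq hq Nat.prime_three).1 e)
    obtain ⟨a, m, hm2, hm⟩ := Nat.exists_eq_pow_mul_and_not_dvd hne 2 (by norm_num)
    obtain ⟨b, k, hk3, hk⟩ := Nat.exists_eq_pow_mul_and_not_dvd (n := m) (fun e => hm2 (by simp [e])) 3 (by norm_num)
    refine ⟨a, b, ?_⟩
    have hk1 : k = 1 := by
      by_contra hne1
      obtain ⟨q, hq, hqk⟩ := Nat.exists_prime_and_dvd hne1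
      have hqm : q ∣ m := hk ▸ hqk.trans (dvd_mul_left _ _)
      rcases hpr q hq (hm ▸ hqm.trans (dvd_mul_left _ _)) with rfl | rfl
      · exact hm2 hqm
      · exact hk3 hqk
    rw [hm, hk, hk1, mul_one]
  obtain ⟨a, b, hab⟩ := hcard
  have hsol := CfsgLib.Char.isSolvable_of_card_two_primes Nat.prime_two Nat.prime_three P a b hab
  have := map_eq_one_of_solvable f.toHomUnits hK hsol x hx
  simpa [MonoidHom.coe_toHomUnits] using congrArg Units.val this

/-- An element of order prime to `p` with `(g - 1)² u = 0` fixes `u`. -/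
theorem fix_of_fix_diff {p m : ℕ} (hp : ∀ u : U, p • u = 0) {g : Γ} (hm : σ g ^ m = 1)
    (hcop : m.Coprime p) {u : U} (h : σ g (σ g u - u) = σ g u - u) : σ g u = u := by
  set w := σ g u - u with hw
  have hpow : ∀ n : ℕ, (σ g ^ n) u = u + n • w := by
    intro n
    induction n with
    | zero => rw [pow_zero, zero_smul, add_zero]; rfl
    | succ n ih =>
      rw [pow_succ', AddMonoid.End.coe_mul, Function.comp_apply, ih, map_add, map_nsmul, h,
        succ_nsmul, show σ g u = u + w by rw [hw, add_sub_cancel]]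
      abel
  have h1 := hpow m
  rw [hm] at h1
  have h2 : m • w = 0 := by
    have : u + m • w = u + 0 := by rw [add_zero]; exact h1.symm
    exact add_left_cancel this
  have hd : addOrderOf w ∣ m.gcd p :=
    Nat.dvd_gcd (addOrderOf_dvd_iff_nsmul_eq_zero.2 h2) (addOrderOf_dvd_iff_nsmul_eq_zero.2 (hp w))
  rw [hcop.gcd_eq_one, Nat.dvd_one, AddMonoid.addOrderOf_eq_one_iff] at hd
  exact sub_eq_zero.1 hd

/-- In characteristic `p` an element of exponent `p` is unipotent. -/
theorem sub_one_pow_eq_zero {p : ℕ} [hpf : Fact p.Prime] (hp : ∀ u : U, p • u = 0)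
    {x : AddMonoid.End U} (hx : x ^ p = 1) : (x - 1) ^ p = 0 := by
  obtain ⟨r, hr⟩ := (Commute.one_right (x - 1)).exists_add_pow_prime_eq hpf.out
  have h0 : (p : AddMonoid.End U) = 0 := AddMonoidHom.ext hp
  rw [sub_add_cancel, hx, one_pow, h0, zero_mul, zero_mul, zero_mul, add_zero] at hr
  have := congrArg (· - (1 : AddMonoid.End U)) hr
  simpa [eq_comm] using this

/-- Thompson's `P × Q` lemma for a cyclic group of exponent `p`. -/
theorem pq_cyclic {p m : ℕ} [hpf : Fact p.Prime] (hp : ∀ u : U, p • u = 0) {c g : Γ}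
    (hc : c ^ p = 1) (hcg : c * g = g * c) (hm : σ g ^ m = 1) (hcop : m.Coprime p) {S : AddSubgroup U}
    (hS : ∀ u ∈ S, σ c u ∈ S) (hSg : ∀ u ∈ S, σ g u ∈ S)
    (hfix : ∀ u ∈ S, σ c u = u → σ g u = u) : ∀ u ∈ S, σ g u = u := by
  have hcomm : ∀ v, σ c (σ g v) = σ g (σ c v) := fun v => by rw [← apply_mul, hcg, apply_mul]
  have hind : ∀ j : ℕ, ∀ u ∈ S, ((σ c - 1) ^ j) u = 0 → σ g u = u := by
    intro j
    induction j with
    | zero =>
      intro u _ hu0
      have hu : u = 0 := hu0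
      rw [hu, map_zero]
    | succ j ih =>
      intro u hu hu0
      rw [pow_succ, AddMonoid.End.coe_mul, Function.comp_apply] at hu0
      have hv : (σ c - 1) u = σ c u - u := rfl
      rw [hv] at hu0
      have h1 := ih _ (sub_mem (hS u hu) hu) hu0
      have h2 : σ c (σ g u - u) = σ g u - u := by
        rw [map_sub, hcomm]
        rw [map_sub] at h1
        rw [← sub_eq_zero] at h1 ⊢
        rw [← h1]; abel
      exact fix_of_fix_diff hp hm hcop (hfix _ (sub_mem (hSg u hu) hu) h2)
  intro u hu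
  refine hind p u hu ?_
  rw [sub_one_pow_eq_zero hp (by rw [← map_pow, hc, map_one])]
  rfl

/-- Thompson's `P × Q` lemma for a group of exponent `p`. -/
theorem pq_abelian [Finite Γ] {p m : ℕ} [hpf : Fact p.Prime] (hp : ∀ u : U, p • u = 0)
    {Q : Subgroup Γ} (hQ : ∀ c ∈ Q, c ^ p = 1) (hQab : ∀ c ∈ Q, ∀ d ∈ Q, c * d = d * c) {g : Γ}
    (hQg : ∀ c ∈ Q, c * g = g * c) (hm : σ g ^ m = 1) (hcop : m.Coprime p)
    (hfix : ∀ u ∈ fixA σ Q, σ g u = u) : ∀ u, σ g u = u := by
  by_contra hne
  obtain ⟨R, ⟨hRQ, hR⟩, hmin⟩ := (Set.toFinite {R : Subgroup Γ | R ≤ Q ∧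
    ∀ u ∈ fixA σ R, σ g u = u}).exists_minimal ⟨Q, le_rfl, hfix⟩
  have hRne : R ≠ ⊥ := by
    intro e
    exact hne fun u => hR u fun h hh => by rw [e, mem_bot] at hh; rw [hh, map_one]; rfl
  obtain ⟨R1, hR1⟩ := (Set.toFinite {R1 : Subgroup Γ | R1 < R}).exists_maximal
    ⟨⊥, bot_lt_iff_ne_bot.2 hRne⟩
  have hlt : R1 < R := hR1.1
  obtain ⟨c, hc, hc1⟩ := SetLike.exists_of_lt hlt
  have hsup : R1 ⊔ zpowers c = R := by
    rcases eq_or_lt_of_le (sup_le hlt.le (zpowers_le.2 hc)) with e | e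
    · exact e
    · exact absurd (hR1.2 e le_sup_left (mem_sup_right (mem_zpowers c))) hc1
  refine hlt.not_ge (hmin ⟨hlt.le.trans hRQ, ?_⟩ hlt.le)
  refine pq_cyclic hp (hQ c (hRQ hc)) (hQg c (hRQ hc)) hm hcop ?_ ?_ ?_
  · intro u hu h hh
    rw [← apply_mul, hQab h (hRQ (hlt.le hh)) c (hRQ hc), apply_mul, hu h hh]
  · intro u hu h hh
    rw [← apply_mul, hQg h (hRQ (hlt.le hh)), apply_mul, hu h hh]
  · intro u hu hcu
    refine hR u ?_
    rw [← hsup, fixA_sup]
    refine ⟨hu, fun h hh => ?_⟩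
    exact (show zpowers c ≤ _ from zpowers_le.2 (show c ∈ stab σ u from hcu)) hh

end CfsgLib.OffComp
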