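import Cfsg.Agent.Lib.OffComp.Quaternion

/-!
# Few fixed points in the quaternion ring
-/

set_option autoImplicit false
set_option linter.style.haveILetI false

namespace CfsgLib.OffComp

universe u v

variable {R : Type v} [Ring R] {K : Type u} [Group K] {σ : R →+ R} {B : Subgroup (R ≃+* R)}
  {π : K →* R} {e : R}

namespace Quad

/-- The automorphisms fixing the corner idempotent. -/
def cornerStab (B : Subgroup (R ≃+* R)) (e : R) : Subgroup (R ≃+* R) where
  carrier := {b | b ∈ B ∧ b e = e}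
  one_mem' := ⟨one_mem B, rfl⟩
  mul_mem' := fun {a b} ha hb => ⟨mul_mem ha.1 hb.1, by
    show a (b e) = e
    rw [hb.2, ha.2]⟩
  inv_mem' := fun {a} ha => ⟨inv_mem ha.1, by
    show a.symm e = e
    conv_lhs => rw [← ha.2, RingEquiv.symm_apply_apply]⟩

/-- The automorphisms fixing the field of the corner pointwise. -/
def cornerLin (σ : R →+ R) (B : Subgroup (R ≃+* R)) (e : R) : Subgroup (R ≃+* R) where
  carrier := {b | b ∈ cornerStab B e ∧ ∀ z ∈ cornerSet σ e, b z = z}
  one_mem' := ⟨one_mem _, fun _ _ => rfl⟩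
  mul_mem' := fun {a b} ha hb => ⟨mul_mem ha.1 hb.1, fun z hz => by
    show a (b z) = z
    rw [hb.2 z hz, ha.2 z hz]⟩
  inv_mem' := fun {a} ha => ⟨inv_mem ha.1, fun z hz => by
    show a.symm z = z
    conv_lhs => rw [← ha.2 z hz, RingEquiv.symm_apply_apply]⟩

/-- The common fixed points in the corner. -/
def cornerCommon (σ : R →+ R) (B : Subgroup (R ≃+* R)) (e : R) : AddSubgroup R where
  carrier := {u | u ∈ cornerFix σ e ∧ ∀ b ∈ cornerStab B e, b u = u}
  zero_mem' := ⟨zero_mem _, fun b _ => map_zero b⟩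
  add_mem' := fun {a c} ha hc => ⟨add_mem ha.1 hc.1, fun b hb => by
    rw [map_add, ha.2 b hb, hc.2 b hb]⟩
  neg_mem' := fun {a} ha => ⟨neg_mem ha.1, fun b hb => by rw [map_neg, ha.2 b hb]⟩

theorem map_cornerAll {b : R ≃+* R} (hb : b e = e) {u : R} (hu : e * u = u) : e * b u = b u := by
  conv_rhs => rw [← hu, map_mul, hb]

theorem map_cornerFix (h : Quad σ B π) {b : R ≃+* R} (hb : b ∈ cornerStab B e) {u : R}
    (hu : u ∈ cornerFix σ e) : b u ∈ cornerFix σ e :=
  ⟨map_cornerAll hb.2 hu.1, by rw [← h.map_comm b hb.1, hu.2]⟩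

theorem map_cornerSet (h : Quad σ B π) {b : R ≃+* R} (hb : b ∈ cornerStab B e) {z : R}
    (hz : z ∈ cornerSet σ e) : b z ∈ cornerSet σ e :=
  ⟨h.base_map hb.1 hz.1, map_cornerAll hb.2 hz.2⟩

theorem cornerSet_add (h : Quad σ B π) {y z : R} (hy : y ∈ cornerSet σ e) (hz : z ∈ cornerSet σ e) :
    y + z ∈ cornerSet σ e :=
  ⟨h.base_add hy.1 hz.1, by rw [mul_add, hy.2, hz.2]⟩

theorem cornerSet_mul (h : Quad σ B π) {y z : R} (hy : y ∈ cornerSet σ e) (hz : z ∈ cornerSet σ e) :
    y * z ∈ cornerSet σ e :=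
  ⟨h.base_mul hy.1 hz.1, by rw [← mul_assoc, hy.2]⟩

theorem cornerSet_zero (_h : Quad σ B π) : (0 : R) ∈ cornerSet σ e :=
  ⟨⟨map_zero σ, fun w => by rw [zero_mul, mul_zero]⟩, mul_zero e⟩

theorem cornerSet_sub_fix (_h : Quad σ B π) {z : R} (hz : z ∈ cornerSet σ e) : z ∈ cornerFix σ e :=
  ⟨hz.2, hz.1.1⟩

theorem exists_sqrt (h : Quad σ B π) [Finite R] (hc : Corner σ e) {z : R} (hz : z ∈ cornerSet σ e) :
    ∃ w ∈ cornerSet σ e, w * w = z := by
  let g : cornerSet σ e → cornerSet σ e := fun w => ⟨w * w, h.cornerSet_mul w.2 w.2⟩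
  have hinj : Function.Injective g := by
    intro a b hab
    have h1 : (a : R) * a = b * b := congrArg Subtype.val hab
    have h2 : ((a : R) + b) * ((a : R) + b) = 0 := by
      rw [add_mul, mul_add, mul_add, h1, b.2.1.2 (a : R),
        show (b : R) * b + (a : R) * b + ((a : R) * b + b * b) =
          (b * b + b * b) + ((a : R) * b + (a : R) * b) by abel, h.two, h.two, add_zero]
    have h3 := h.reduced (h.base_add a.2.1 b.2.1) h2
    exact Subtype.ext (by rw [← h.add_cancel' (b : R) a, add_comm (b : R) a, h3, add_zero])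
  obtain ⟨w, hw⟩ := (Finite.injective_iff_surjective.1 hinj) ⟨z, hz⟩
  exact ⟨w, w.2, congrArg Subtype.val hw⟩

/-- A square-zero element of trace zero fixed by the linear automorphisms. -/
theorem exists_fixed_null (h : Quad σ B π) [Finite R] (hc : Corner σ e) :
    ∃ n ∈ cornerFix σ e, n ≠ 0 ∧ n * n = 0 ∧ ∀ b ∈ cornerLin σ B e, b n = n := by
  classical
  have key : ∀ s : Finset (R ≃+* R), (∀ b ∈ s, b ∈ cornerLin σ B e) →
      ∃ n ∈ cornerFix σ e, n ∉ cornerSet σ e ∧ ∀ b ∈ s, b n + n ∈ cornerSet σ e := by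
    intro s
    induction s using Finset.induction_on with
    | empty =>
      intro _
      obtain ⟨n, hn, hn'⟩ := h.exists_fix_not_mem hc
      exact ⟨n, hn, hn', fun b hb => absurd hb (Finset.notMem_empty b)⟩
    | insert c s _ ih =>
      intro hs
      have hcl := hs c (Finset.mem_insert_self c s)
      obtain ⟨n, hn, hn', hns⟩ := ih fun b hb => hs b (Finset.mem_insert_of_mem hb)
      by_cases hcn : c n + n ∈ cornerSet σ e
      · refine ⟨n, hn, hn', fun b hb => ?_⟩
        rcases Finset.mem_insert.1 hb with rfl | hb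
        · exact hcn
        · exact hns b hb
      · refine ⟨c n + n, add_mem (h.map_cornerFix hcl.1 hn) hn, hcn, fun b hb => ?_⟩
        rcases Finset.mem_insert.1 hb with rfl | hb
        · rw [map_add, h.sq b hcl.1.1, add_comm n (b n), h.two]
          exact h.cornerSet_zero
        · have hbl := hs b (Finset.mem_insert_of_mem hb)
          rw [map_add, h.comm b hbl.1.1 c hcl.1.1,
            show c (b n) + b n + (c n + n) = c (b n + n) + (b n + n) by rw [map_add]; abel,
            hcl.2 _ (hns b hb), h.two]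
          exact h.cornerSet_zero
  haveI : Finite (R ≃+* R) := Finite.of_injective _ DFunLike.coe_injective
  obtain ⟨n, hn, hn', hns⟩ := key (Set.toFinite (cornerLin σ B e : Set (R ≃+* R))).toFinset
    fun b hb => by simpa using hb
  have hnn : n * n ∈ cornerSet σ e := by
    refine ⟨?_, by rw [← mul_assoc, hn.1]⟩
    have := h.base_norm n
    rwa [hn.2] at this
  have hfix : ∀ b ∈ cornerLin σ B e, b n = n := by
    intro b hb
    obtain ⟨c, hcdef⟩ : ∃ c, c = b n + n := ⟨_, rfl⟩
    have hcmem : c ∈ cornerSet σ e := hcdef ▸ hns b (by simpa using hb)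
    have e1 : b n = n + c := by rw [hcdef, add_comm (b n) n, h.add_cancel']
    have e2 : (n + c) * (n + c) = n * n := by rw [← e1, ← map_mul, hb.2 _ hnn]
    have e3 : c * c = 0 := by
      rw [add_mul, mul_add, mul_add, hcmem.1.2 n,
        show n * n + n * c + (n * c + c * c) = n * n + ((n * c + n * c) + c * c) by abel, h.two, zero_add,
        add_eq_left] at e2
      exact e2
    rw [e1, h.reduced hcmem.1 e3, add_zero]
  obtain ⟨r, hr, hrr⟩ := h.exists_sqrt hc hnn
  refine ⟨n + r, add_mem hn (h.cornerSet_sub_fix hr), ?_, ?_, ?_⟩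
  · intro e0
    refine hn' ?_
    rw [show n = r by rw [← h.add_cancel' r n, add_comm r n, e0, add_zero]]
    exact hr
  · rw [add_mul, mul_add, mul_add, hrr, hr.1.2 n,
      show n * n + n * r + (n * r + n * n) = (n * n + n * n) + (n * r + n * r) by abel, h.two, h.two,
      add_zero]
  · intro b hb
    rw [map_add, hfix b hb, hb.2 r hr]

/-- A complete set of matrix units. -/
structure Frame (σ : R →+ R) (e n m : R) : Prop where
  hn : n ∈ cornerFix σ e
  hm : m ∈ cornerFix σ e
  nn : n * n = 0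
  mm : m * m = 0
  nm : n * m + m * n = e

theorem tau_cornerSet_mul (h : Quad σ B π) {z : R} (hz : z ∈ cornerSet σ e) (u : R) :
    z * u + σ (z * u) = z * (u + σ u) := h.tau_base_mul hz.1 u

theorem exists_frame (h : Quad σ B π) [Finite R] (hc : Corner σ e) :
    ∃ n m, Frame σ e n m ∧ ∀ b ∈ cornerLin σ B e, b n = n := by
  obtain ⟨n, hn, hn0, hnn, hnfix⟩ := h.exists_fixed_null hc
  have hee : e * e = e := hc.idem
  have hce : ∀ z ∈ cornerSet σ e, z * e = z := fun z hz => by rw [← hc.base.2, hz.2]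
  -- a partner
  obtain ⟨y0, hy0e, hy0⟩ : ∃ y, e * y = y ∧ n * y + σ (n * y) ≠ 0 := by
    by_contra hne
    push Not at hne
    exact hn0 (h.nondeg_corner hc hn.1 hne)
  obtain ⟨i, hi, hyi⟩ := h.exists_inv hc (h.tau_mem hc (by rw [← mul_assoc, hn.1])) hy0
  obtain ⟨y1, hy1⟩ : ∃ z, z = i * y0 := ⟨_, rfl⟩
  have hy1e : e * y1 = y1 := by rw [hy1, ← mul_assoc, hi.2]
  have hτy1 : n * y1 + σ (n * y1) = e := by
    rw [hy1, ← mul_assoc, ← hi.1.2 n, mul_assoc, h.tau_cornerSet_mul hi, hi.1.2, hyi]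
  obtain ⟨c, hc1⟩ : ∃ z, z = y1 + σ y1 := ⟨_, rfl⟩
  have hcmem : c ∈ cornerSet σ e := hc1 ▸ h.tau_mem hc hy1e
  obtain ⟨u, hue, hu⟩ : ∃ u, e * u = u ∧ u + σ u + c * (n * u + σ (n * u)) ≠ 0 := by
    by_contra hne
    push Not at hne
    have h0 : e + c * n = 0 := by
      refine h.nondeg_corner hc (by rw [mul_add, hee, ← mul_assoc, hcmem.2]) fun w hw => ?_
      rw [add_mul, map_add, hw, mul_assoc, add_add_add_comm, h.tau_cornerSet_mul hcmem]
      exact hne w hw
    have h1 : e * n + c * n * n = 0 := by rw [← add_mul, h0, zero_mul]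
    rw [mul_assoc, hnn, mul_zero, add_zero, hn.1] at h1
    exact hn0 h1
  obtain ⟨v0, hv0⟩ : ∃ z, z = u + (n * u + σ (n * u)) * y1 := ⟨_, rfl⟩
  have hsm : n * u + σ (n * u) ∈ cornerSet σ e := h.tau_mem hc (by rw [← mul_assoc, hn.1])
  have hv0e : e * v0 = v0 := by rw [hv0, mul_add, hue, ← mul_assoc, hsm.2]
  have hv0n : n * v0 + σ (n * v0) = 0 := by
    rw [hv0, mul_add, map_add, add_add_add_comm, ← mul_assoc n, ← hsm.1.2 n, mul_assoc,
      h.tau_cornerSet_mul hsm, hτy1, hce _ hsm, h.two]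
  have hv0τ : v0 + σ v0 = u + σ u + c * (n * u + σ (n * u)) := by
    rw [hv0, map_add, add_add_add_comm, h.tau_cornerSet_mul hsm, ← hc1, hsm.1.2 c]
  obtain ⟨j, hj, hvj⟩ := h.exists_inv hc (h.tau_mem hc hv0e) (hv0τ ▸ hu)
  obtain ⟨v, hv⟩ : ∃ z, z = j * v0 := ⟨_, rfl⟩
  have hve : e * v = v := by rw [hv, ← mul_assoc, hj.2]
  have hτv : v + σ v = e := by rw [hv, h.tau_cornerSet_mul hj, hj.1.2, hvj]
  have hτnv : n * v + σ (n * v) = 0 := by
    rw [hv, ← mul_assoc, ← hj.1.2 n, mul_assoc, h.tau_cornerSet_mul hj, hv0n, mul_zero]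
  obtain ⟨y, hy⟩ : ∃ z, z = y1 + c * v := ⟨_, rfl⟩
  have hye : e * y = y := by rw [hy, mul_add, hy1e, ← mul_assoc, hcmem.2]
  have hτy : y + σ y = 0 := by
    rw [hy, map_add, add_add_add_comm, h.tau_cornerSet_mul hcmem, hτv, hce _ hcmem, ← hc1, h.two]
  have hσy : σ y = y := by rw [h.sigma_eq y, hτy, add_zero]
  have hτny : n * y + σ (n * y) = e := by
    rw [hy, mul_add, map_add, add_add_add_comm, ← mul_assoc n, ← hcmem.1.2 n, mul_assoc,
      h.tau_cornerSet_mul hcmem, hτnv, mul_zero, add_zero, hτy1]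
  have hny : n * y + y * n = e := by rwa [h.anti, hn.2, hσy] at hτny
  have hβ : y * y ∈ cornerSet σ e := by
    refine ⟨?_, by rw [← mul_assoc, hye]⟩
    have := h.base_norm y
    rwa [hσy] at this
  refine ⟨n, y + y * y * n, ⟨hn, ?_, hnn, ?_, ?_⟩, hnfix⟩
  · refine add_mem ⟨hye, hσy⟩ ⟨by rw [← mul_assoc, hβ.2], ?_⟩
    rw [h.anti, hβ.1.1, hn.2, hβ.1.2]
  · generalize hb : y * y = β at hβ
    have c1 : β * n = n * β := hβ.1.2 n
    calc (y + β * n) * (y + β * n) = y * y + (y * (β * n) + β * n * y) + β * n * (β * n) := by noncomm_ring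
      _ = β + (β * (y * n) + β * (n * y)) + β * β * (n * n) := by
          rw [hb, ← mul_assoc y β n, ← hβ.1.2 y,
            show β * n * (β * n) = β * (n * β) * n by noncomm_ring, ← c1]
          noncomm_ring
      _ = 0 := by rw [hnn, mul_zero, add_zero, ← mul_add, add_comm (y * n), hny, hce _ hβ, h.two]
  · generalize y * y = β at hβ
    have c1 : n * (β * n) = β * (n * n) := by rw [← mul_assoc, ← hβ.1.2 n, mul_assoc]
    rw [mul_add, add_mul, c1, mul_assoc β n n, hnn, mul_zero, add_zero, add_zero, hny]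

variable {n m : R}

theorem Frame.n_mn (hc : Corner σ e) (hF : Frame σ e n m) : n * (m * n) = n := by
  have h1 : n * (n * m + m * n) = n * e := by rw [hF.nm]
  rwa [mul_add, ← mul_assoc, hF.nn, zero_mul, zero_add, ← hc.base.2, hF.hn.1] at h1

theorem Frame.m_nm (hc : Corner σ e) (hF : Frame σ e n m) : m * (n * m) = m := by
  have h1 : m * (n * m + m * n) = m * e := by rw [hF.nm]
  rwa [mul_add, ← mul_assoc m m, hF.mm, zero_mul, add_zero, ← hc.base.2, hF.hm.1] at h1

theorem Frame.sigma_nm (h : Quad σ B π) (hF : Frame σ e n m) : σ (n * m) = m * n := by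
  rw [h.anti, hF.hn.2, hF.hm.2]

theorem Frame.tau_nm (h : Quad σ B π) (hF : Frame σ e n m) : n * m + σ (n * m) = e := by
  rw [hF.sigma_nm h, hF.nm]

/-- The coordinate of `u` against `w`. -/
def pair (σ : R →+ R) (u w : R) : R := u * w + σ (u * w)

theorem pair_add_left (_h : Quad σ B π) (u u' w : R) :
    pair σ (u + u') w = pair σ u w + pair σ u' w := by
  simp only [pair, add_mul, map_add]; abel

theorem pair_smul_left (h : Quad σ B π) {c : R} (hc : c ∈ cornerSet σ e) (u w : R) :
    pair σ (c * u) w = c * pair σ u w := by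
  rw [pair, pair, mul_assoc, h.tau_cornerSet_mul hc]

theorem pair_mem (h : Quad σ B π) (hc : Corner σ e) {u : R} (hu : e * u = u) (w : R) :
    pair σ u w ∈ cornerSet σ e := h.tau_mem hc (by rw [← mul_assoc, hu])

theorem Frame.table (h : Quad σ B π) (hc : Corner σ e) (hF : Frame σ e n m) :
    (pair σ n n = 0 ∧ pair σ n m = e ∧ pair σ n (n * m) = 0 ∧ pair σ n (m * n) = 0) ∧
    (pair σ m n = e ∧ pair σ m m = 0 ∧ pair σ m (n * m) = 0 ∧ pair σ m (m * n) = 0) ∧
    (pair σ (n * m) n = 0 ∧ pair σ (n * m) m = 0 ∧ pair σ (n * m) (n * m) = e ∧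
      pair σ (n * m) (m * n) = 0) ∧
    (pair σ (m * n) n = 0 ∧ pair σ (m * n) m = 0 ∧ pair σ (m * n) (n * m) = 0 ∧
      pair σ (m * n) (m * n) = e) := by
  have z : pair σ (0 : R) 1 = 0 := by simp [pair]
  have tn : n + σ n = 0 := by rw [hF.hn.2, h.two]
  have tm : m + σ m = 0 := by rw [hF.hm.2, h.two]
  have a1 := hF.n_mn hc
  have a2 := hF.m_nm hc
  have tnm := hF.tau_nm h
  have tmn : m * n + σ (m * n) = e := by rw [h.tau_mul_comm, tnm]
  have a1' : n * m * n = n := by rw [mul_assoc, a1]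
  have a2' : m * n * m = m := by rw [mul_assoc, a2]
  refine ⟨⟨?_, tnm, ?_, ?_⟩, ⟨tmn, ?_, ?_, ?_⟩, ⟨?_, ?_, ?_, ?_⟩, ⟨?_, ?_, ?_, ?_⟩⟩ <;>
    simp only [pair]
  · rw [hF.nn, map_zero, add_zero]
  · rw [← mul_assoc, hF.nn, zero_mul, map_zero, add_zero]
  · rw [a1, tn]
  · rw [hF.mm, map_zero, add_zero]
  · rw [a2, tm]
  · rw [← mul_assoc, hF.mm, zero_mul, map_zero, add_zero]
  · rw [a1', tn]
  · rw [mul_assoc, hF.mm, mul_zero, map_zero, add_zero]
  · rw [show n * m * (n * m) = n * m by rw [← mul_assoc, a1'], tnm]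
  · rw [show n * m * (m * n) = n * (m * m) * n by noncomm_ring, hF.mm, mul_zero, zero_mul, map_zero,
      add_zero]
  · rw [mul_assoc, hF.nn, mul_zero, map_zero, add_zero]
  · rw [a2', tm]
  · rw [show m * n * (n * m) = m * (n * n) * m by noncomm_ring, hF.nn, mul_zero, zero_mul, map_zero,
      add_zero]
  · rw [show m * n * (m * n) = m * n by rw [← mul_assoc, a2'], tmn]

theorem Frame.eq_zero (h : Quad σ B π) (hc : Corner σ e) (hF : Frame σ e n m) {g : R} (hg : e * g = g)
    (h1 : pair σ g n = 0) (h2 : pair σ g m = 0) (h3 : pair σ g (n * m) = 0)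
    (h4 : pair σ g (m * n) = 0) : g = 0 := by
  have hσ : σ g = g := by
    have : pair σ g (n * m + m * n) = 0 := by
      rw [pair, mul_add, map_add, add_add_add_comm, show g * (n * m) + σ (g * (n * m)) = 0 from h3,
        show g * (m * n) + σ (g * (m * n)) = 0 from h4, add_zero]
    rw [hF.nm, pair, ← hc.base.2, hg] at this
    rw [h.sigma_eq g, this, add_zero]
  have e1 : n * g = g * n := by
    rw [pair, h.anti, hF.hn.2, hσ] at h1
    rw [← h.add_cancel' (g * n) (n * g), h1, add_zero]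
  have e2 : m * g = g * m := by
    rw [pair, h.anti, hF.hm.2, hσ] at h2
    rw [← h.add_cancel' (g * m) (m * g), h2, add_zero]
  rw [pair, h.anti g, h.anti m n, hF.hn.2, hF.hm.2, hσ] at h4
  have e3 : g * (m * n) = m * n * g := by rw [mul_assoc, e1, ← mul_assoc m g, e2, mul_assoc]
  rw [e3, ← add_mul, add_comm (m * n), hF.nm, hg] at h4
  exact h4

theorem Frame.decomp (h : Quad σ B π) (hc : Corner σ e) (hF : Frame σ e n m) {u : R} (hu : e * u = u) :
    u = pair σ u m * n + pair σ u n * m + pair σ u (n * m) * (n * m) + pair σ u (m * n) * (m * n) := by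
  have c1 := h.pair_mem hc hu m
  have c2 := h.pair_mem hc hu n
  have c3 := h.pair_mem hc hu (n * m)
  have c4 := h.pair_mem hc hu (m * n)
  obtain ⟨⟨t11, t12, t13, t14⟩, ⟨t21, t22, t23, t24⟩, ⟨t31, t32, t33, t34⟩, ⟨t41, t42, t43, t44⟩⟩ :=
    hF.table h hc
  have hce : ∀ z ∈ cornerSet σ e, z * e = z := fun z hz => by rw [← hc.base.2, hz.2]
  set r := pair σ u m * n + pair σ u n * m + pair σ u (n * m) * (n * m) + pair σ u (m * n) * (m * n)
    with hr
  have hg : e * (u + r) = u + r := by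
    rw [hr]; simp only [mul_add, hu, ← mul_assoc, c1.2, c2.2, c3.2, c4.2]
  have key : ∀ w, pair σ (u + r) w = pair σ u w + (pair σ u m * pair σ n w + pair σ u n * pair σ m w +
      pair σ u (n * m) * pair σ (n * m) w + pair σ u (m * n) * pair σ (m * n) w) := fun w => by
    rw [h.pair_add_left, hr, h.pair_add_left, h.pair_add_left, h.pair_add_left,
      h.pair_smul_left c1, h.pair_smul_left c2, h.pair_smul_left c3, h.pair_smul_left c4]
  have h0 : u + r = 0 := hF.eq_zero h hc hg
    (by rw [key, t11, t21, t31, t41]; simp only [mul_zero, zero_add, add_zero]; rw [hce _ c2, h.two])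
    (by rw [key, t12, t22, t32, t42]; simp only [mul_zero, add_zero]; rw [hce _ c1, h.two])
    (by rw [key, t13, t23, t33, t43]; simp only [mul_zero, zero_add, add_zero]; rw [hce _ c3, h.two])
    (by rw [key, t14, t24, t34, t44]; simp only [mul_zero, zero_add]; rw [hce _ c4, h.two])
  rw [← h.add_cancel' r u, add_comm r u, h0, add_zero]

theorem Frame.decomp_fix (h : Quad σ B π) (hc : Corner σ e) (hF : Frame σ e n m) {u : R}
    (hu : u ∈ cornerFix σ e) :
    u = pair σ u m * n + pair σ u n * m + pair σ u (n * m) := by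
  have e4 : pair σ u (m * n) = pair σ u (n * m) := by
    have e : u * (m * n) = σ ((n * m) * u) := by rw [h.anti, hF.sigma_nm h, hu.2]
    rw [pair, pair, e, h.inv, add_comm, h.tau_mul_comm]
  have hd := hF.decomp h hc hu.1
  rw [e4, add_assoc (pair σ u m * n + pair σ u n * m), ← mul_add, hF.nm,
    ← hc.base.2 (pair σ u (n * m)), (h.pair_mem hc hu.1 (n * m)).2] at hd
  exact hd

theorem two_mul_card_le_of_lt {A : Type*} [AddGroup A] [Finite A] {P Q : AddSubgroup A} (h : P < Q) :
    2 * Nat.card P ≤ Nat.card Q := by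
  obtain ⟨k, hk⟩ := AddSubgroup.card_dvd_of_le h.le
  have hne : Nat.card P ≠ Nat.card Q := fun e => h.ne (AddSubgroup.eq_of_le_of_card_ge h.le e.ge)
  have hpos : 0 < Nat.card Q := Nat.card_pos
  rcases k with _ | _ | k
  · rw [hk, mul_zero] at hpos; omega
  · rw [zero_add, mul_one] at hk; omega
  · rw [hk, mul_comm]; exact Nat.mul_le_mul_left _ (by omega)

theorem card_le_of_le' {A : Type*} [AddGroup A] [Finite A] {P Q : AddSubgroup A} (h : P ≤ Q) :
    Nat.card P ≤ Nat.card Q :=
  Nat.card_le_card_of_injective _ (AddSubgroup.inclusion_injective h)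

/-- At most two classes of automorphisms on the field. -/
theorem card_cornerStab_le (h : Quad σ B π) [Finite R] (hc : Corner σ e) :
    Nat.card (cornerStab B e) ≤ 2 * Nat.card (cornerLin σ B e) := by
  classical
  haveI : Finite (R ≃+* R) := Finite.of_injective _ DFunLike.coe_injective
  let k := {z : R // z ∈ cornerSet σ e}
  letI : Add k := ⟨fun a b => ⟨a.1 + b.1, h.cornerSet_add a.2 b.2⟩⟩
  letI : Mul k := ⟨fun a b => ⟨a.1 * b.1, h.cornerSet_mul a.2 b.2⟩⟩
  letI : Neg k := ⟨fun a => a⟩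
  letI : Zero k := ⟨⟨0, h.cornerSet_zero⟩⟩
  letI : One k := ⟨⟨e, hc.base, hc.idem⟩⟩
  letI instC : CommRing k := CommRing.ofMinimalAxioms
    (fun a b c => Subtype.ext (add_assoc a.1 b.1 c.1)) (fun a => Subtype.ext (zero_add a.1))
    (fun a => Subtype.ext (h.two a.1)) (fun a b c => Subtype.ext (mul_assoc a.1 b.1 c.1))
    (fun a b => Subtype.ext (a.2.1.2 b.1)) (fun a => Subtype.ext a.2.2)
    (fun a b c => Subtype.ext (mul_add a.1 b.1 c.1))
  have hF : IsField k :=
    { exists_pair_ne := ⟨0, 1, fun e' => hc.ne (congrArg Subtype.val e').symm⟩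
      mul_comm := mul_comm
      mul_inv_cancel := fun {a} ha => by
        obtain ⟨w, hw, hwe⟩ := h.exists_inv hc a.2 fun e' => ha (Subtype.ext e')
        exact ⟨⟨w, hw⟩, Subtype.ext hwe⟩ }
  letI : Field k := hF.toField
  haveI : Finite k := inferInstanceAs (Finite {z : R // z ∈ cornerSet σ e})
  haveI : CharP k 2 := by
    refine CharTwo.of_one_ne_zero_of_two_eq_zero one_ne_zero ?_
    rw [← one_add_one_eq_two]
    exact Subtype.ext (h.two e)
  letI : Algebra (ZMod 2) k := ZMod.algebra k 2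
  let mk : ∀ b : cornerStab B e, k → k := fun b z => ⟨(b : R ≃+* R) z.1, h.map_cornerSet b.2 z.2⟩
  let φ : cornerStab B e →* (k ≃ₐ[ZMod 2] k) :=
    { toFun := fun b => AlgEquiv.ofRingEquiv (f :=
        { toFun := mk b
          invFun := mk b⁻¹
          left_inv := fun z => Subtype.ext ((b : R ≃+* R).symm_apply_apply z.1)
          right_inv := fun z => Subtype.ext ((b : R ≃+* R).apply_symm_apply z.1)
          map_mul' := fun a c => Subtype.ext (map_mul (b : R ≃+* R) a.1 c.1)
          map_add' := fun a c => Subtype.ext (map_add (b : R ≃+* R) a.1 c.1) })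
        (fun x => by
          obtain ⟨i, rfl⟩ := ZMod.natCast_zmod_surjective x
          rw [map_natCast, map_natCast])
      map_one' := AlgEquiv.ext fun z => Subtype.ext rfl
      map_mul' := fun a b => AlgEquiv.ext fun z => Subtype.ext rfl }
  have hker : φ.ker ≤ (cornerLin σ B e).subgroupOf (cornerStab B e) := fun b hb =>
    ⟨b.2, fun z hz => by
      have h' : φ b ⟨z, hz⟩ = ⟨z, hz⟩ := by rw [MonoidHom.mem_ker.1 hb]; rfl
      exact congrArg (fun w : k => w.1) h'⟩
  haveI : Finite (k ≃ₐ[ZMod 2] k) := Finite.of_injective _ DFunLike.coe_injective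
  haveI : Fintype (k ≃ₐ[ZMod 2] k) := Fintype.ofFinite _
  haveI : IsCyclic (k ≃ₐ[ZMod 2] k) := inferInstance
  have h2 : Nat.card φ.range ≤ 2 := by
    refine le_trans ?_ (IsCyclic.card_pow_eq_one_le (α := k ≃ₐ[ZMod 2] k) (n := 2) (by omega))
    rw [← Nat.card_eq_finsetCard]
    refine Nat.card_le_card_of_injective (fun g => ⟨g.1, ?_⟩) fun a b hab =>
      Subtype.ext (by simpa using hab)
    obtain ⟨b, hb⟩ := g.2
    simp only [Finset.mem_filter, Finset.mem_univ, true_and]
    rw [← hb, ← map_pow]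
    exact AlgEquiv.ext fun z => Subtype.ext (by
      show (b : R ≃+* R) ((b : R ≃+* R) z.1) = z.1
      exact h.sq _ b.2.1 _)
  have h3 : Nat.card φ.range * Nat.card φ.ker = Nat.card (cornerStab B e) := by
    rw [← Subgroup.index_ker, Subgroup.index_mul_card]
  have h4 : Nat.card φ.ker ≤ Nat.card (cornerLin σ B e) := by
    refine (Nat.card_le_card_of_injective _ (Subgroup.inclusion_injective hker)).trans ?_
    rw [Nat.card_congr (Subgroup.subgroupOfEquivOfLe (show cornerLin σ B e ≤ cornerStab B e from fun _ hb => hb.1)).toEquiv]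
  rw [← h3]
  exact Nat.mul_le_mul h2 h4

theorem eq_zero_of_orbit (h : Quad σ B π) (hc : Corner σ e) {u : R}
    (hu : ∀ b ∈ B, e * b u = 0) : u = 0 := by
  let I : AddSubgroup R :=
    { carrier := {u | ∀ b ∈ B, e * b u = 0}
      zero_mem' := fun b _ => by rw [map_zero, mul_zero]
      add_mem' := fun {a c} ha hc' b hb => by rw [map_add, mul_add, ha b hb, hc' b hb, add_zero]
      neg_mem' := fun {a} ha b hb => by rw [map_neg, mul_neg, ha b hb, neg_zero] }
  rcases h.irr I (fun a ha w => ⟨fun b hb => by rw [map_mul, ← mul_assoc, hc.base.2 (b w), mul_assoc,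
      ha b hb, mul_zero], fun b hb => by rw [map_mul, ← mul_assoc, ha b hb, zero_mul]⟩)
    (fun a ha b hb => by
      rw [h.map_comm b hb]
      have := congrArg σ (ha b hb)
      rwa [h.anti, hc.base.1, map_zero, ← hc.base.2] at this)
    (fun c hc' a ha b hb => ha (b * c) (mul_mem hb hc')) with e' | e'
  · exact AddSubgroup.mem_bot.1 (e' ▸ (hu : u ∈ I))
  · have h1 := (e' ▸ AddSubgroup.mem_top (1 : R) : (1 : R) ∈ I) 1 (one_mem B)
    exact absurd (by simpa using h1) hc.ne

theorem stab_faithful (h : Quad σ B π) (hc : Corner σ e) {b : R ≃+* R} (hb : b ∈ cornerStab B e)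
    (hfix : ∀ u, e * u = u → b u = u) : b = 1 := by
  refine RingEquiv.ext fun u => ?_
  have h0 : b u + u = 0 := h.eq_zero_of_orbit hc fun c hc' => by
    rw [map_add, h.comm c hc' b hb.1, mul_add]
    have h1 : e * b (c u) = b (e * c u) := by rw [map_mul, hb.2]
    rw [h1, hfix _ (by rw [← mul_assoc, hc.idem]), h.two]
  show b u = u
  rw [← h.add_cancel' u (b u), add_comm u (b u), h0, add_zero]

theorem Frame.map_m (h : Quad σ B π) (hc : Corner σ e) (hF : Frame σ e n m) {b : R ≃+* R}
    (hb : b ∈ cornerLin σ B e) (hbn : b n = n) :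
    b m = pair σ (b m) (n * m) * pair σ (b m) (n * m) * n + m + pair σ (b m) (n * m) := by
  have hbm := h.map_cornerFix hb.1 hF.hm
  have hα := h.pair_mem hc hbm.1 (n * m)
  have hβ := h.pair_mem hc hbm.1 m
  have hpn : pair σ (b m) n = e := by
    have h1 : b (pair σ m n) = pair σ (b m) (b n) := by
      simp only [pair, map_add, map_mul, h.map_comm b hb.1.1]
    rw [hbn, (hF.table h hc).2.1.1, hb.1.2] at h1
    exact h1.symm
  have hd := hF.decomp_fix h hc hbm
  rw [hpn, hF.hm.1] at hd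
  have hsq : b m * b m = 0 := by rw [← map_mul, hF.mm, map_zero]
  revert hd hα hβ
  generalize pair σ (b m) (n * m) = α
  generalize pair σ (b m) m = β
  intro hα hβ hd
  rw [hd] at hsq ⊢
  have c1 : α * n = n * α := hα.1.2 n
  have c2 : α * m = m * α := hα.1.2 m
  have c3 : β * m = m * β := hβ.1.2 m
  have hsq' : (β * n + m + α) * (β * n + m + α) = β + α * α := by
    calc (β * n + m + α) * (β * n + m + α) = β * (n * β) * n + β * (n * m) + (m * β) * n +
          m * m + α * α + (β * n * α + α * (β * n)) + (m * α + α * m) := by noncomm_ring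
      _ = β * β * (n * n) + β * (n * m + m * n) + m * m + α * α +
          (β * n * α + β * n * α) + (m * α + m * α) := by
          rw [← hβ.1.2 n, ← c3, hα.1.2 (β * n), c2]; noncomm_ring
      _ = β + α * α := by
          rw [hF.nn, hF.nm, hF.mm, mul_zero, h.two, h.two, ← hc.base.2, hβ.2]; abel
  rw [hsq'] at hsq
  rw [show β = α * α by rw [← h.add_cancel' (α * α) β, add_comm (α * α) β, hsq, add_zero]]

/-- The fixed points are few. -/
theorem card_common (h : Quad σ B π) [Finite R] (hc : Corner σ e) :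
    2 * Nat.card (cornerStab B e) * Nat.card (cornerCommon σ B e) < Nat.card (cornerAll e) := by
  classical
  haveI : Finite (R ≃+* R) := Finite.of_injective _ DFunLike.coe_injective
  obtain ⟨n, m, hF, hnfix⟩ := h.exists_frame hc
  have hq := h.four_le_card hc
  obtain ⟨q, hqdef⟩ : ∃ q, q = Nat.card (cornerSet σ e) := ⟨_, rfl⟩
  rw [← hqdef] at hq
  obtain ⟨⟨t11, t12, t13, t14⟩, ⟨t21, t22, t23, t24⟩, ⟨t31, t32, t33, t34⟩, ⟨t41, t42, t43, t44⟩⟩ :=
    hF.table h hc
  have hall : q ^ 4 ≤ Nat.card (cornerAll e) := by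
    rw [hqdef, show Nat.card (cornerSet σ e) ^ 4 =
      Nat.card (cornerSet σ e × cornerSet σ e × cornerSet σ e × cornerSet σ e) by
        simp only [Nat.card_prod]; ring]
    refine Nat.card_le_card_of_injective (fun x => ⟨x.1.1 * n + x.2.1.1 * m + x.2.2.1.1 * (n * m) +
      x.2.2.2.1 * (m * n), by
        show e * _ = _
        simp only [mul_add, ← mul_assoc, x.1.2.2, x.2.1.2.2, x.2.2.1.2.2, x.2.2.2.2.2]⟩) ?_
    rintro ⟨a1, a2, a3, a4⟩ ⟨b1, b2, b3, b4⟩ hab
    have hv := congrArg Subtype.val hab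
    have hce : ∀ z : cornerSet σ e, (z : R) * e = z := fun z => by rw [← hc.base.2, z.2.2]
    have key : ∀ w, (a1 : R) * pair σ n w + a2 * pair σ m w + a3 * pair σ (n * m) w +
        a4 * pair σ (m * n) w = (b1 : R) * pair σ n w + b2 * pair σ m w + b3 * pair σ (n * m) w +
        b4 * pair σ (m * n) w := fun w => by
      have := congrArg (fun u => pair σ u w) hv
      simp only [h.pair_add_left, h.pair_smul_left a1.2, h.pair_smul_left a2.2, h.pair_smul_left a3.2,
        h.pair_smul_left a4.2, h.pair_smul_left b1.2, h.pair_smul_left b2.2, h.pair_smul_left b3.2,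
        h.pair_smul_left b4.2] at this
      exact this
    have k1 := key m
    have k2 := key n
    have k3 := key (n * m)
    have k4 := key (m * n)
    simp only [t12, t22, t32, t42, mul_zero, add_zero, hce] at k1
    simp only [t11, t21, t31, t41, mul_zero, add_zero, zero_add, hce] at k2
    simp only [t13, t23, t33, t43, mul_zero, add_zero, zero_add, hce] at k3
    simp only [t14, t24, t34, t44, mul_zero, zero_add, hce] at k4
    rw [Subtype.ext k1, Subtype.ext k2, Subtype.ext k3, Subtype.ext k4]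
  have hfix3 : Nat.card (cornerFix σ e) ≤ q ^ 3 := by
    rw [hqdef, show Nat.card (cornerSet σ e) ^ 3 =
      Nat.card (cornerSet σ e × cornerSet σ e × cornerSet σ e) by simp only [Nat.card_prod]; ring]
    refine Nat.card_le_card_of_injective (fun u => (⟨_, h.pair_mem hc u.2.1 m⟩,
      ⟨_, h.pair_mem hc u.2.1 n⟩, ⟨_, h.pair_mem hc u.2.1 (n * m)⟩)) fun u w huw => ?_
    simp only [Prod.mk.injEq, Subtype.mk.injEq] at huw
    refine Subtype.ext ?_
    rw [hF.decomp_fix h hc u.2, huw.1, huw.2.1, huw.2.2, ← hF.decomp_fix h hc w.2]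
  let T : AddSubgroup R :=
    { carrier := {u | u ∈ cornerFix σ e ∧ pair σ u n = 0}
      zero_mem' := ⟨zero_mem _, by simp [pair]⟩
      add_mem' := fun {a c} ha hc' => ⟨add_mem ha.1 hc'.1, by rw [h.pair_add_left, ha.2, hc'.2, add_zero]⟩
      neg_mem' := fun {a} ha => by rw [h.neg_eq]; exact ha }
  have hT : Nat.card T ≤ q ^ 2 := by
    rw [hqdef, pow_two, ← Nat.card_prod]
    refine Nat.card_le_card_of_injective (fun u => (⟨_, h.pair_mem hc u.2.1.1 m⟩,
      ⟨_, h.pair_mem hc u.2.1.1 (n * m)⟩)) fun u w huw => ?_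
    simp only [Prod.mk.injEq, Subtype.mk.injEq] at huw
    refine Subtype.ext ?_
    rw [hF.decomp_fix h hc u.2.1, huw.1, huw.2, u.2.2, ← w.2.2, ← hF.decomp_fix h hc w.2.1]
  -- the linear automorphisms
  have hlin : Nat.card (cornerLin σ B e) ≤ q := by
    rw [hqdef]
    refine Nat.card_le_card_of_injective (fun b => (⟨_, h.pair_mem hc
      (h.map_cornerFix b.2.1 hF.hm).1 (n * m)⟩ : cornerSet σ e)) fun b c hbc => ?_
    have he : (b : R ≃+* R) m = (c : R ≃+* R) m := by
      rw [hF.map_m h hc b.2 (hnfix _ b.2), hF.map_m h hc c.2 (hnfix _ c.2),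
        show pair σ ((b : R ≃+* R) m) (n * m) = pair σ ((c : R ≃+* R) m) (n * m) from
          congrArg Subtype.val hbc]
    refine Subtype.ext ?_
    have hd := mul_mem b.2 (inv_mem c.2)
    have h1 : (b : R ≃+* R) * (c : R ≃+* R)⁻¹ = 1 := by
      refine h.stab_faithful hc hd.1 fun u hu => ?_
      have hn1 := hnfix _ hd
      have hm1 : ((b : R ≃+* R) * (c : R ≃+* R)⁻¹) m = m := by
        show (b : R ≃+* R) ((c : R ≃+* R).symm m) = m
        have : (c : R ≃+* R).symm m = (c : R ≃+* R) m := by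
          rw [RingEquiv.symm_apply_eq, h.sq _ c.2.1.1]
        rw [this, ← he, h.sq _ b.2.1.1]
      conv_lhs => rw [hF.decomp h hc hu]
      conv_rhs => rw [hF.decomp h hc hu]
      simp only [map_add, map_mul, hd.2 _ (h.pair_mem hc hu m), hd.2 _ (h.pair_mem hc hu n),
        hd.2 _ (h.pair_mem hc hu (n * m)), hd.2 _ (h.pair_mem hc hu (m * n)), hn1, hm1]
    rw [mul_inv_eq_one] at h1
    exact h1
  have hproper : cornerStab B e ≠ cornerLin σ B e → ∀ X : AddSubgroup R,
      cornerCommon σ B e ≤ X → (∀ z ∈ cornerSet σ e, z ∈ X) → 2 * Nat.card (cornerCommon σ B e) ≤ Nat.card X := by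
    intro hne X hX hkX
    refine two_mul_card_le_of_lt (lt_of_le_of_ne hX fun e' => hne ?_)
    refine le_antisymm (fun b hb => ⟨hb, fun z hz => ?_⟩) fun b hb => hb.1
    have hzC : z ∈ cornerCommon σ B e := e'.symm ▸ hkX z hz
    exact hzC.2 b hb
  have hstab := h.card_cornerStab_le hc
  rcases eq_or_ne (cornerLin σ B e) ⊥ with hbot | hne
  · rw [hbot, Subgroup.card_bot] at hstab
    rcases eq_or_ne (cornerStab B e) (cornerLin σ B e) with heq | hprop
    · rw [heq, hbot, Subgroup.card_bot, mul_one]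
      calc 2 * Nat.card (cornerCommon σ B e) ≤ 2 * q ^ 3 :=
            Nat.mul_le_mul_left _ ((card_le_of_le' (Q := cornerFix σ e) (P := cornerCommon σ B e) fun u hu => hu.1).trans hfix3)
        _ < q ^ 4 := by rw [pow_succ q 3, mul_comm]; exact Nat.mul_lt_mul_of_pos_left (by omega) (pow_pos (by omega) 3)
        _ ≤ _ := hall
    · have h1 := hproper hprop (cornerFix σ e) (fun u hu => hu.1) fun z hz => h.cornerSet_sub_fix hz
      calc 2 * Nat.card (cornerStab B e) * Nat.card (cornerCommon σ B e)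
          ≤ 2 * 2 * Nat.card (cornerCommon σ B e) := by gcongr
        _ ≤ 2 * q ^ 3 := by rw [mul_assoc]; exact Nat.mul_le_mul_left _ (h1.trans hfix3)
        _ < q ^ 4 := by rw [pow_succ q 3, mul_comm]; exact Nat.mul_lt_mul_of_pos_left (by omega) (pow_pos (by omega) 3)
        _ ≤ _ := hall
  · obtain ⟨b, hb, hb1⟩ := SetLike.exists_of_lt (bot_lt_iff_ne_bot.2 hne)
    rw [Subgroup.mem_bot] at hb1
    have hmove : b m ≠ m := fun e' => hb1 (h.stab_faithful hc hb.1 fun u hu => by
      conv_lhs => rw [hF.decomp h hc hu]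
      conv_rhs => rw [hF.decomp h hc hu]
      simp only [map_add, map_mul, hb.2 _ (h.pair_mem hc hu m), hb.2 _ (h.pair_mem hc hu n),
        hb.2 _ (h.pair_mem hc hu (n * m)), hb.2 _ (h.pair_mem hc hu (m * n)), hnfix b hb, e'])
    have hCT : cornerCommon σ B e ≤ T := by
      intro u hu
      refine ⟨hu.1, ?_⟩
      by_contra hne'
      have hd := hF.decomp_fix h hc hu.1
      have hbu := hu.2 b hb.1
      rw [hd] at hbu
      simp only [map_add, map_mul, hb.2 _ (h.pair_mem hc hu.1.1 m), hb.2 _ (h.pair_mem hc hu.1.1 n),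
        hb.2 _ (h.pair_mem hc hu.1.1 (n * m)), hnfix b hb] at hbu
      have h2 := add_left_cancel (add_right_cancel hbu)
      obtain ⟨w, hw, hwe⟩ := h.exists_inv hc (h.pair_mem hc hu.1.1 n) hne'
      refine hmove ?_
      have h3 := congrArg (w * ·) h2
      simp only [← mul_assoc, hw.1.2 (pair σ u n), hwe] at h3
      rwa [map_cornerAll hb.1.2 hF.hm.1, hF.hm.1] at h3
    have hCle := (card_le_of_le' hCT).trans hT
    rcases eq_or_ne (cornerStab B e) (cornerLin σ B e) with heq | hprop
    · calc 2 * Nat.card (cornerStab B e) * Nat.card (cornerCommon σ B e) ≤ 2 * q * q ^ 2 := by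
            rw [heq]; exact Nat.mul_le_mul (Nat.mul_le_mul_left _ hlin) hCle
        _ < q ^ 4 := by
            rw [show q ^ 4 = q * q * q ^ 2 by ring]
            exact Nat.mul_lt_mul_of_pos_right (Nat.mul_lt_mul_of_pos_right (by omega) (by omega))
              (pow_pos (by omega) 2)
        _ ≤ _ := hall
    · have h1 := (hproper hprop T hCT fun z hz => ⟨h.cornerSet_sub_fix hz, by
        show pair σ z n = 0
        rw [pair, h.tau_cornerSet_mul hz, hF.hn.2, h.two, mul_zero]⟩).trans hT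
      calc 2 * Nat.card (cornerStab B e) * Nat.card (cornerCommon σ B e)
          ≤ 2 * (2 * q) * Nat.card (cornerCommon σ B e) := by
            gcongr; exact hstab.trans (Nat.mul_le_mul_left _ hlin)
        _ = 2 * q * (2 * Nat.card (cornerCommon σ B e)) := by ring
        _ ≤ 2 * q * q ^ 2 := Nat.mul_le_mul_left _ h1
        _ < q ^ 4 := by
            rw [show q ^ 4 = q * q * q ^ 2 by ring]
            exact Nat.mul_lt_mul_of_pos_right (Nat.mul_lt_mul_of_pos_right (by omega) (by omega))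
              (pow_pos (by omega) 2)
        _ ≤ _ := hall

/-- The main bound: an offender is impossible. -/
theorem card_fix_lt (h : Quad σ B π) [Finite R] (C : AddSubgroup R)
    (hC : ∀ u ∈ C, σ u = u ∧ ∀ b ∈ B, b u = u) : 2 * Nat.card B * Nat.card C < Nat.card R := by
  classical
  haveI : Finite (R ≃+* R) := Finite.of_injective _ DFunLike.coe_injective
  obtain ⟨e, hc⟩ := h.exists_corner
  have hmain := h.card_common hc
  have hCe : Nat.card C ≤ Nat.card (cornerCommon σ B e) := by
    refine Nat.card_le_card_of_injective (fun u => ⟨e * u, ⟨by rw [← mul_assoc, hc.idem], ?_⟩,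
      fun b hb => by rw [map_mul, hb.2, (hC u u.2).2 b hb.1]⟩) fun u w huw => ?_
    · rw [h.anti, hc.base.1, (hC u u.2).1, hc.base.2]
    · have hv : e * (u : R) = e * w := congrArg Subtype.val huw
      refine Subtype.ext (sub_eq_zero.1 (h.eq_zero_of_orbit hc fun b hb => ?_))
      rw [map_sub, (hC u u.2).2 b hb, (hC w w.2).2 b hb, mul_sub, hv, sub_self]
  -- the orbit of the idempotent
  set O : Set R := (fun b : R ≃+* R => b e) '' (B : Set (R ≃+* R)) with hO
  have hBO : Nat.card B ≤ Nat.card O * Nat.card (cornerStab B e) := by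
    rw [← Nat.card_prod]
    have hex : ∀ o : O, ∃ b, b ∈ B ∧ b e = o.1 := fun o => o.2
    choose rep hrepB hrep using hex
    refine Nat.card_le_card_of_injective (fun b => (⟨(b : R ≃+* R) e, b, b.2, rfl⟩,
      ⟨(rep ⟨(b : R ≃+* R) e, b, b.2, rfl⟩)⁻¹ * b, mul_mem (inv_mem (hrepB _)) b.2, ?_⟩)) fun b c hbc => ?_
    · show (rep _).symm ((b : R ≃+* R) e) = e
      rw [RingEquiv.symm_apply_eq, hrep]
    · have hr := congrArg rep (Prod.ext_iff.1 hbc).1
      have h2 := congrArg Subtype.val (Prod.ext_iff.1 hbc).2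
      dsimp only at hr h2
      rw [hr] at h2
      exact Subtype.ext (mul_left_cancel h2)
  have horth : ∀ f ∈ O, f ≠ e → e * f = 0 := by
    rintro _ ⟨b, hb, rfl⟩ hne
    by_contra hef
    have h1 : ∀ c ∈ B, e * c e ≠ 0 → e * c e = e := by
      intro c hc' h0
      obtain ⟨w, hw, hew, hwe⟩ := hc.inv (c e) (h.base_map hc' hc.base) h0
      calc e * c e = (e * c e) * e := by rw [← hc.base.2 (e * c e), ← mul_assoc, hc.idem]
        _ = (e * c e) * (e * c e * w) := by rw [hwe]
        _ = e * c e * (e * c e) * w := by rw [← mul_assoc]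
        _ = e := by
            rw [mul_assoc e (c e) (e * c e), ← mul_assoc (c e) e, ← hc.base.2 (c e), mul_assoc e (c e) (c e),
              ← mul_assoc e e, hc.idem, ← map_mul, hc.idem, hwe]
    have e1 := h1 b hb hef
    refine hne ?_
    have e2 := congrArg b e1
    rw [map_mul, h.sq b hb, ← hc.base.2] at e2
    exact e2.symm.trans e1
  have hN : 2 ≤ Nat.card (cornerAll e) := by
    by_contra hlt
    have := Finite.card_le_one_iff_subsingleton.1 (show Nat.card (cornerAll e) ≤ 1 by omega)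
    exact hc.ne (congrArg Subtype.val (Subsingleton.elim (⟨e, hc.idem⟩ : cornerAll e) 0))
  have hRO : Nat.card (cornerAll e) * Nat.card O ≤ Nat.card R := by
    rw [← Nat.card_prod]
    refine Nat.card_le_card_of_injective (fun x => x.1.1 + if x.2.1 = e then 0 else x.2.1) ?_
    rintro ⟨u, f⟩ ⟨w, g⟩ hab
    have hz : ∀ f : O, e * (if f.1 = e then 0 else f.1) = 0 := fun f => by
      split_ifs with hf
      · exact mul_zero e
      · exact horth f.1 f.2 hf
    have h1 := congrArg (e * ·) hab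
    simp only [mul_add, hz, add_zero] at h1
    rw [show e * u.1 = u.1 from u.2, show e * w.1 = w.1 from w.2] at h1
    simp only [h1, add_right_inj] at hab
    refine Prod.ext (Subtype.ext h1) (Subtype.ext ?_)
    have hne : ∀ f : O, f.1 ≠ 0 := by
      rintro ⟨_, b, hb, rfl⟩ h0
      exact hc.ne (by rw [← h.sq b hb e, show b e = 0 from h0, map_zero])
    split_ifs at hab with hf hg hg
    · rw [hf, hg]
    · exact absurd hab.symm (hne g)
    · exact absurd hab (hne f)
    · exact hab
  have hOpos : 0 < Nat.card O := Nat.card_pos_iff.2 ⟨⟨⟨e, 1, one_mem B, rfl⟩⟩, inferInstance⟩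
  calc 2 * Nat.card B * Nat.card C
      ≤ 2 * (Nat.card O * Nat.card (cornerStab B e)) * Nat.card (cornerCommon σ B e) := by gcongr
    _ = (2 * Nat.card (cornerStab B e) * Nat.card (cornerCommon σ B e)) * Nat.card O := by ring
    _ < Nat.card (cornerAll e) * Nat.card O := Nat.mul_lt_mul_of_pos_right hmain hOpos
    _ ≤ Nat.card R := hRO

end Quad

end CfsgLib.OffComp
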