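import Cfsg.Agent.Lib.OffComp.Section
import Cfsg.Agent.Lib.OffComp.QuaternionBound

/-!
# The identity contradicts being an offender
-/

set_option autoImplicit false
set_option linter.style.haveILetI false

open Subgroup
open scoped commutatorElement

namespace CfsgLib.OffComp

universe u v

variable {Γ : Type u} [Group Γ] {A B K : Subgroup Γ}

theorem exists_fixed_point [Finite Γ] {X : Type v} [AddCommGroup X] {τ : Γ →* AddMonoid.End X}
    (h2 : ∀ x : X, x + x = 0) (hAc : ∀ a ∈ A, ∀ b ∈ A, a * b = b * a) (hA2 : ∀ a ∈ A, a ^ 2 = 1)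
    {S : AddSubgroup X} (hS : ∀ a ∈ A, ∀ u ∈ S, τ a u ∈ S) (hne : ∃ u ∈ S, u ≠ 0) :
    ∃ w ∈ S, w ≠ 0 ∧ ∀ a ∈ A, τ a w = w := by
  classical
  have key : ∀ s : Finset Γ, (∀ a ∈ s, a ∈ A) → ∃ w ∈ S, w ≠ 0 ∧ ∀ a ∈ s, τ a w = w := by
    intro s
    induction s using Finset.induction_on with
    | empty =>
      intro _
      obtain ⟨u, hu, hu0⟩ := hne
      exact ⟨u, hu, hu0, fun a ha => absurd ha (Finset.notMem_empty a)⟩
    | insert c s _ ih =>
      intro hs
      have hc := hs c (Finset.mem_insert_self c s)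
      obtain ⟨w, hw, hw0, hws⟩ := ih fun a ha => hs a (Finset.mem_insert_of_mem ha)
      by_cases hcw : τ c w = w
      · exact ⟨w, hw, hw0, fun a ha => (Finset.mem_insert.1 ha).elim (fun e => e ▸ hcw) (hws a)⟩
      · refine ⟨τ c w + w, add_mem (hS c hc w hw) hw, fun e => hcw ?_, fun a ha => ?_⟩
        · rw [eq_neg_of_add_eq_zero_left e, neg_eq_of_add_eq_zero_left (h2 w)]
        · rcases Finset.mem_insert.1 ha with rfl | ha
          · rw [map_add, ← apply_mul, ← pow_two, hA2 a hc, map_one, add_comm]; rfl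
          · rw [map_add, ← apply_mul, hAc a (hs a (Finset.mem_insert_of_mem ha)) c hc, apply_mul,
              hws a ha]
  obtain ⟨w, h1, h3, h4⟩ := key (Set.toFinite (A : Set Γ)).toFinset fun a ha => by simpa using ha
  exact ⟨w, h1, h3, fun a ha => h4 a (by simpa using ha)⟩

/-- An offender cannot satisfy the identity. -/
theorem Wr.false_of_ident [Finite Γ] {p : ℕ} [hpf : Fact p.Prime] (hw : Wr A B K p) {U : Type v}
    [AddCommGroup U] [Finite U] (hp : ∀ u : U, p • u = 0) {σ : Γ →* AddMonoid.End U}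
    (hid : Ident σ A B K p) (hgen : conjGen A K (fun _ => True) ⊔ A = ⊤) (hBA : ¬ A ≤ B)
    (hK : ∃ k ∈ K, σ k ≠ 1) (Q : Subgroup Γ)
    (hQ : ∀ b ∈ B, ∀ L : Subgroup Γ, L ≤ K → (∀ k ∈ K, ∀ l ∈ L, k * l * k⁻¹ ∈ L) → L ≠ K →
      (∀ x ∈ K, b * x * b⁻¹ * x⁻¹ ∈ L) → b ∈ Q)
    (hoff : Nat.card U * Nat.card Q ≤ Nat.card A * Nat.card (fixA σ A)) : False := by
  classical
  obtain ⟨X, _, _, τ, hirr, hKX, hsp, hsid, -, hsfix⟩ := exists_irreducible hw.perfect A σ hK
  have hidX : Ident τ A B K p := fun a ha haB x hx => hsid _ _ (hid a ha haB x hx)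
  have hpX := hsp p hp
  have hN := hw.irr_conjGen hidX hgen hirr hKX hBA
  obtain ⟨a, ha, haB⟩ := SetLike.not_le_iff_exists.1 hBA
  obtain rfl := hw.prime_two hpX hidX hN ha haB hKX
  have h2 : ∀ x : X, x + x = 0 := fun x => by rw [← two_nsmul]; exact hpX x
  have hneg : ∀ x : X, -x = x := fun x => neg_eq_of_add_eq_zero_left (h2 x)
  have htwo : ∀ c ∈ A, c ∉ B → a⁻¹ * c ∈ B := fun c hc hcB => hw.two_cosets hpX hidX hN hKX ha hc haB hcB
  have ha2 : ∀ u : X, τ a (τ a u) = u := fun u => by
    rw [← apply_mul, ← pow_two, hw.pow_p a ha, map_one]; rfl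
  -- the image of `a - 1`
  let W : AddSubgroup X := (τ a - 1 : AddMonoid.End X).range
  have hWd : ∀ x ∈ K, ∀ v ∈ W, τ ((x * a) ^ 2) v = v := by
    rintro x hx _ ⟨u, rfl⟩
    exact sub_eq_zero.1 (DFunLike.congr_fun (hidX a ha haB x hx) u)
  obtain ⟨w, hwW, hw0, hwfix⟩ := exists_fixed_point (τ := τ) (S := W) h2 hw.comm_A hw.pow_p (by
      rintro c hc _ ⟨u, rfl⟩
      refine ⟨τ c u, ?_⟩
      show τ a (τ c u) - τ c u = τ c (τ a u - u)
      rw [map_sub, ← apply_mul, ← apply_mul, hw.comm_A a ha c hc]) (by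
      by_contra hne
      push Not at hne
      obtain ⟨k, hk, hk1⟩ := hKX
      have hta : τ a = 1 := AddMonoidHom.ext fun u => sub_eq_zero.1 (hne _ ⟨u, rfl⟩)
      refine hk1 (map_eq_one_of_comm τ hw.perfect (fun x hx y hy => ?_) k hk)
      have e : τ (a * x * a⁻¹) = τ x := by
        rw [map_mul, map_mul, hta, one_mul,
          show τ a⁻¹ = 1 by
            have := map_mul τ a⁻¹ a
            rw [inv_mul_cancel, map_one, hta, mul_one] at this
            exact this.symm, mul_one]
      rw [← e, ← map_mul, ← map_mul, (hw.comm a ha haB x hx y hy).eq])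
  have hwa : τ a w = w := hwfix a ha
  -- the ring
  let R : Subring (AddMonoid.End X) := Subring.closure (Set.range fun k : K => τ k)
  let π : K →* R :=
    { toFun := fun k => ⟨τ k, Subring.subset_closure ⟨k, rfl⟩⟩
      map_one' := Subtype.ext (map_one τ)
      map_mul' := fun k l => Subtype.ext (map_mul τ (k : Γ) (l : Γ)) }
  have hRcomm : ∀ E : AddMonoid.End X, (∀ k ∈ K, τ k * E = E * τ k) → ∀ r ∈ R, r * E = E * r := by
    intro E hE r hr
    induction hr using Subring.closure_induction with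
    | mem y hy => obtain ⟨k, rfl⟩ := hy; exact hE k k.2
    | zero => rw [zero_mul, mul_zero]
    | one => rw [one_mul, mul_one]
    | add y z _ _ hy hz => rw [add_mul, mul_add, hy, hz]
    | neg y _ hy => rw [neg_mul, mul_neg, hy]
    | mul y z _ _ hy hz => rw [mul_assoc, hz, ← mul_assoc, hy, mul_assoc]
  have hcommK1 : ∀ x ∈ K, ∀ r ∈ R, r * τ (a * x * a⁻¹) = τ (a * x * a⁻¹) * r := fun x hx =>
    hRcomm _ fun k hk => by rw [← map_mul, ← map_mul, ((hw.comm a ha haB x hx k hk).symm).eq]
  have hd2 : ∀ x : Γ, (x * a) ^ 2 = x * (a * x * a⁻¹) := fun x => by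
    have ea : a⁻¹ = a := inv_eq_of_mul_eq_one_right (by rw [← pow_two, hw.pow_p a ha])
    rw [pow_two, ea]; group
  have hK1w : ∀ x ∈ K, τ (a * x * a⁻¹) w = τ x⁻¹ w := fun x hx => by
    have h := hWd x hx w hwW
    rw [hd2, apply_mul] at h
    calc τ (a * x * a⁻¹) w = τ x⁻¹ (τ x (τ (a * x * a⁻¹) w)) := (apply_inv_apply x _).symm
      _ = τ x⁻¹ w := by rw [h]
  have haK : ∀ x ∈ K, τ a (τ x w) = τ x⁻¹ w := fun x hx => by
    rw [← hK1w x hx]
    conv_rhs => rw [← hwa, ← apply_mul, show a * x * a⁻¹ * a = a * x by group, apply_mul]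
  let ev : R →+ X :=
    { toFun := fun r => (r : AddMonoid.End X) w
      map_zero' := rfl
      map_add' := fun _ _ => rfl }
  have hRspan : ∀ r ∈ R, r ∈ AddSubgroup.closure (Set.range fun k : K => τ k) := by
    intro r hr
    have h := Subring.mem_closure_iff.1 hr
    let f : K →* AddMonoid.End X := τ.comp K.subtype
    have hm : (Submonoid.closure (Set.range fun k : K => τ k) : Set (AddMonoid.End X)) =
        Set.range fun k : K => τ k := by
      refine Set.Subset.antisymm (fun y hy => ?_) Submonoid.subset_closure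
      exact (Submonoid.closure_le.2 (fun z hz => hz) : _ ≤ MonoidHom.mrange f) hy
    rwa [hm] at h
  have hev_a : ∀ r : R, ∃ r' : R, τ a (ev r) = ev r' := by
    rintro ⟨r, hr⟩
    have hr' := hRspan r hr
    show ∃ r' : R, τ a (r w) = (r' : AddMonoid.End X) w
    clear hr
    induction hr' using AddSubgroup.closure_induction with
    | mem y hy =>
      obtain ⟨k, rfl⟩ := hy
      exact ⟨π k⁻¹, haK k k.2⟩
    | zero => exact ⟨0, map_zero (τ a)⟩
    | add y z _ _ hy hz =>
      obtain ⟨r1, h1⟩ := hy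
      obtain ⟨r2, h3⟩ := hz
      exact ⟨r1 + r2, by show τ a (y w + z w) = _; rw [map_add, h1, h3]; rfl⟩
    | neg y _ hy =>
      obtain ⟨r1, h1⟩ := hy
      exact ⟨-r1, by show τ a (-(y w)) = _; rw [map_neg, h1]; rfl⟩
  -- conjugation by `B` on the ring
  have hconjR : ∀ b ∈ B, ∀ r ∈ R, τ b * r * τ b⁻¹ ∈ R := by
    intro b hb r hr
    have h1 : τ b⁻¹ * τ b = 1 := by rw [← map_mul, inv_mul_cancel, map_one]
    have h2 : τ b * τ b⁻¹ = 1 := by rw [← map_mul, mul_inv_cancel, map_one]
    induction hr using Subring.closure_induction with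
    | mem y hy =>
      obtain ⟨k, rfl⟩ := hy
      show τ b * τ k * τ b⁻¹ ∈ R
      rw [← map_mul, ← map_mul]
      exact (π ⟨b * k * b⁻¹, hw.norm b hb k k.2⟩).2
    | zero => rw [mul_zero, zero_mul]; exact zero_mem R
    | one => rw [mul_one, h2]; exact one_mem R
    | add y z _ _ hy hz => rw [mul_add, add_mul]; exact add_mem hy hz
    | neg y _ hy => rw [mul_neg, neg_mul]; exact neg_mem hy
    | mul y z _ _ hy hz =>
      rw [show τ b * (y * z) * τ b⁻¹ = (τ b * y * τ b⁻¹) * (τ b * z * τ b⁻¹) by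
        simp only [mul_assoc]; rw [← mul_assoc (τ b⁻¹) (τ b), h1, one_mul]]
      exact mul_mem hy hz
  have hBfix : ∀ b ∈ B, τ b⁻¹ w = w := fun b hb => hwfix _ (inv_mem (hw.le hb))
  -- irreducibility makes evaluation bijective
  have hinvar : ∀ S : AddSubgroup X, (∀ g ∈ K, ∀ u ∈ S, τ g u ∈ S) → (∀ u ∈ S, τ a u ∈ S) →
      (∀ g ∈ B, ∀ u ∈ S, τ g u ∈ S) → S = ⊥ ∨ S = ⊤ := by
    intro S hSK hSa hSB
    refine hirr S fun g hg => ?_
    have hA' : A ≤ subStab τ S := by
      intro c hc
      by_cases hcB : c ∈ B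
      · exact hSB c hcB
      · rw [show c = a * (a⁻¹ * c) by group]
        exact mul_mem (show a ∈ subStab τ S from hSa) (hSB _ (htwo c hc hcB))
    have hN' : conjGen A K (fun _ => True) ≤ subStab τ S := by
      refine (closure_le _).2 ?_
      rintro _ ⟨c, hc, -, k, hk, rfl⟩
      exact mul_mem (mul_mem (hA' hc) (hSK k hk)) (inv_mem (hA' hc))
    exact (sup_le hN' hA') (hgen ▸ mem_top g)
  have hsurj : Function.Surjective ev := by
    refine (hinvar ev.range ?_ ?_ ?_).elim
      (fun e => absurd (AddSubgroup.mem_bot.1 (e ▸ ⟨1, rfl⟩ : w ∈ (⊥ : AddSubgroup X))) hw0)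
      (fun e => AddMonoidHom.range_eq_top.1 e)
    · rintro g hg _ ⟨r, rfl⟩
      exact ⟨π ⟨g, hg⟩ * r, rfl⟩
    · rintro _ ⟨r, rfl⟩
      obtain ⟨r', h⟩ := hev_a r
      exact ⟨r', h.symm⟩
    · rintro g hg _ ⟨r, rfl⟩
      refine ⟨⟨_, hconjR g hg r r.2⟩, ?_⟩
      show τ g ((r : AddMonoid.End X) (τ g⁻¹ w)) = _
      rw [hBfix g hg]; rfl
  have hinj : Function.Injective ev := by
    refine (injective_iff_map_eq_zero ev).2 fun r hr => Subtype.ext (AddMonoidHom.ext fun u => ?_)
    obtain ⟨s, hs⟩ := hsurj (τ a u)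
    have hu : u = (τ a * (s : AddMonoid.End X) * τ a⁻¹) w := by
      show u = τ a ((s : AddMonoid.End X) (τ a⁻¹ w))
      rw [hwfix _ (inv_mem ha), show (s : AddMonoid.End X) w = τ a u from hs, ha2]
    have hc : (r : AddMonoid.End X) * (τ a * s * τ a⁻¹) = τ a * s * τ a⁻¹ * r := by
      refine hRcomm _ (fun k hk => ?_) r r.2
      have hsk := (hcommK1 k hk s s.2)
      have h1 : τ a * τ (a * k * a⁻¹) = τ k * τ a := by
        have ea : a⁻¹ = a := inv_eq_of_mul_eq_one_right (by rw [← pow_two, hw.pow_p a ha])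
        rw [← map_mul, ← map_mul, ea, show a * (a * k * a) = (a * a) * (k * a) by group, ← pow_two,
          hw.pow_p a ha, one_mul]
      have h3 : τ (a * k * a⁻¹) * τ a⁻¹ = τ a⁻¹ * τ k := by
        have ea : a⁻¹ = a := inv_eq_of_mul_eq_one_right (by rw [← pow_two, hw.pow_p a ha])
        rw [← map_mul, ← map_mul, ea, show a * k * a * a = a * k * (a * a) by group, ← pow_two,
          hw.pow_p a ha, mul_one]
      calc τ k * (τ a * s * τ a⁻¹) = τ a * (τ (a * k * a⁻¹) * s) * τ a⁻¹ := by
            rw [← mul_assoc, ← mul_assoc, ← h1, mul_assoc (τ a)]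
        _ = τ a * s * (τ (a * k * a⁻¹) * τ a⁻¹) := by rw [← hsk]; simp only [mul_assoc]
        _ = _ := by rw [h3]; simp only [mul_assoc]
    show (r : AddMonoid.End X) u = 0
    rw [hu]
    show ((r : AddMonoid.End X) * (τ a * s * τ a⁻¹)) w = 0
    rw [hc, AddMonoid.End.coe_mul, Function.comp_apply, show (r : AddMonoid.End X) w = 0 from hr, map_zero]
  let e : R ≃+ X := AddEquiv.ofBijective ev ⟨hinj, hsurj⟩
  have hev : ∀ r, e r = (r : AddMonoid.End X) w := fun r => rfl
  let σ' : R →+ R := e.symm.toAddMonoidHom.comp ((τ a : X →+ X).comp e.toAddMonoidHom)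
  have hσ' : ∀ r, e (σ' r) = τ a (e r) := fun r => e.apply_symm_apply _
  -- the automorphisms
  let φ : B →* (R ≃+* R) :=
    { toFun := fun b =>
        { toFun := fun r => ⟨_, hconjR b b.2 r r.2⟩
          invFun := fun r => ⟨_, hconjR _ (inv_mem b.2) r r.2⟩
          left_inv := fun r => Subtype.ext (by
            show τ (b : Γ)⁻¹ * (τ b * r * τ (b : Γ)⁻¹) * τ ((b : Γ)⁻¹)⁻¹ = r
            rw [inv_inv, ← mul_assoc, ← mul_assoc, ← map_mul, inv_mul_cancel, map_one, one_mul, mul_assoc,
              ← map_mul, inv_mul_cancel, map_one, mul_one])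
          right_inv := fun r => Subtype.ext (by
            show τ b * (τ (b : Γ)⁻¹ * r * τ ((b : Γ)⁻¹)⁻¹) * τ (b : Γ)⁻¹ = r
            rw [inv_inv, ← mul_assoc, ← mul_assoc, ← map_mul, mul_inv_cancel, map_one, one_mul, mul_assoc,
              ← map_mul, mul_inv_cancel, map_one, mul_one])
          map_mul' := fun r s => Subtype.ext (by
            show τ b * ((r : AddMonoid.End X) * s) * τ (b : Γ)⁻¹ =
              τ b * r * τ (b : Γ)⁻¹ * (τ b * s * τ (b : Γ)⁻¹)
            simp only [mul_assoc]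
            rw [← mul_assoc (τ (b : Γ)⁻¹) (τ (b : Γ)), ← map_mul, inv_mul_cancel, map_one, one_mul])
          map_add' := fun r s => Subtype.ext (by
            show τ b * ((r : AddMonoid.End X) + s) * τ (b : Γ)⁻¹ = _
            rw [mul_add, add_mul]; rfl) }
      map_one' := RingEquiv.ext fun r => Subtype.ext (by
        show τ ((1 : B) : Γ) * r * τ ((1 : B) : Γ)⁻¹ = r
        rw [OneMemClass.coe_one, inv_one, map_one, one_mul, mul_one])
      map_mul' := fun b c => RingEquiv.ext fun r => Subtype.ext (by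
        show τ ((b * c : B) : Γ) * r * τ ((b * c : B) : Γ)⁻¹ = τ b * (τ c * r * τ (c : Γ)⁻¹) * τ (b : Γ)⁻¹
        rw [MulMemClass.coe_mul, mul_inv_rev, map_mul, map_mul]; simp only [mul_assoc]) }
  have hφ : ∀ (b : B) (r : R), e (φ b r) = τ b (e r) := fun b r => by
    show τ (b : Γ) ((r : AddMonoid.End X) (τ (b : Γ)⁻¹ w)) = τ b ((r : AddMonoid.End X) w)
    rw [hBfix b b.2]
  have hBB : ∀ b c : B, ∀ u : X, τ b (τ c u) = τ c (τ b u) := fun b c u => by
    rw [← apply_mul, ← apply_mul, hw.comm_A _ (hw.le b.2) _ (hw.le c.2)]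
  have hquad : Quad σ' φ.range π :=
    { two := fun r => e.injective (by rw [map_add, map_zero, h2])
      inv := fun r => e.injective (by rw [hσ', hσ', ha2])
      anti := fun r s => e.injective (by
        rw [hσ']
        have hc : (τ a * (r : AddMonoid.End X) * τ a⁻¹) * (σ' s : AddMonoid.End X) =
            (σ' s : AddMonoid.End X) * (τ a * r * τ a⁻¹) := by
          refine (hRcomm _ (fun k hk => ?_) _ (σ' s).2).symm
          have hsk := hcommK1 k hk r r.2
          have ea : a⁻¹ = a := inv_eq_of_mul_eq_one_right (by rw [← pow_two, hw.pow_p a ha])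
          have h1 : τ k * τ a = τ a * τ (a * k * a⁻¹) := by
            rw [← map_mul, ← map_mul, ea, show a * (a * k * a) = (a * a) * (k * a) by group, ← pow_two,
              hw.pow_p a ha, one_mul]
          have h3 : τ (a * k * a⁻¹) * τ a⁻¹ = τ a⁻¹ * τ k := by
            rw [← map_mul, ← map_mul, ea, show a * k * a * a = a * k * (a * a) by group, ← pow_two,
              hw.pow_p a ha, mul_one]
          calc τ k * (τ a * r * τ a⁻¹) = τ a * (τ (a * k * a⁻¹) * r) * τ a⁻¹ := by
                rw [← mul_assoc, ← mul_assoc, h1, mul_assoc (τ a)]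
            _ = τ a * r * (τ (a * k * a⁻¹) * τ a⁻¹) := by rw [← hsk]; simp only [mul_assoc]
            _ = _ := by rw [h3]; simp only [mul_assoc]
        have hs : (σ' s : AddMonoid.End X) w = τ a ((s : AddMonoid.End X) w) := hσ' s
        have hr' : (σ' r : AddMonoid.End X) w = τ a ((r : AddMonoid.End X) w) := hσ' r
        show τ a ((r : AddMonoid.End X) ((s : AddMonoid.End X) w)) =
          (σ' s : AddMonoid.End X) ((σ' r : AddMonoid.End X) w)
        have key := DFunLike.congr_fun hc w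
        simp only [AddMonoid.End.coe_mul, Function.comp_apply] at key
        rw [hs, apply_inv_apply, hwfix _ (inv_mem ha)] at key
        rw [hr', key])
      central := fun r s => by
        set t := r + σ' r with ht
        have htW : (t : AddMonoid.End X) w ∈ W := by
          refine ⟨(r : AddMonoid.End X) w, ?_⟩
          show τ a ((r : AddMonoid.End X) w) - (r : AddMonoid.End X) w = e (r + σ' r)
          rw [map_add, hσ', hev, sub_eq_add_neg, hneg, add_comm]
        have hcomm : ∀ k ∈ K, τ k * (t : AddMonoid.End X) = t * τ k := by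
          intro k hk
          have hfix := hWd k hk _ htW
          rw [hd2, apply_mul] at hfix
          have h5 : τ (a * k * a⁻¹) ((t : AddMonoid.End X) w) = (t : AddMonoid.End X) (τ k⁻¹ w) := by
            rw [← hK1w k hk]
            exact (DFunLike.congr_fun (hcommK1 k hk t t.2) w).symm
          rw [h5] at hfix
          have e1 : π ⟨k, hk⟩ * t * π ⟨k, hk⟩⁻¹ = t := e.injective hfix
          have e2 : π ⟨k, hk⟩ * t = t * π ⟨k, hk⟩ := by
            conv_rhs => rw [← e1]
            rw [mul_assoc (π ⟨k, hk⟩ * t), ← map_mul, inv_mul_cancel, map_one, mul_one]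
          exact congrArg Subtype.val e2
        exact Subtype.ext (hRcomm _ hcomm s s.2).symm
      map_inv := fun x => e.injective (by rw [hσ']; exact haK x x.2)
      perfect := by
        apply Subgroup.map_injective K.subtype_injective
        rw [Subgroup.map_commutator, ← MonoidHom.range_eq_map, range_subtype, hw.perfect]
      span := by
        refine (AddSubgroup.eq_top_iff' _).2 fun r => ?_
        have hle : AddSubgroup.closure (Set.range fun k : K => τ k) ≤
            (AddSubgroup.closure (Set.range π)).map R.subtype.toAddMonoidHom := by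
          refine (AddSubgroup.closure_le _).2 ?_
          rintro _ ⟨k, rfl⟩
          exact ⟨π k, AddSubgroup.subset_closure ⟨k, rfl⟩, rfl⟩
        obtain ⟨r', hr', hrr⟩ := hle (hRspan r r.2)
        rwa [← show r' = r from Subtype.ext hrr]
      nontriv := by
        obtain ⟨k, hk, hk1⟩ := hKX
        exact ⟨⟨k, hk⟩, fun h => hk1 (congrArg Subtype.val h)⟩
      comm := by
        rintro _ ⟨b, rfl⟩ _ ⟨c, rfl⟩ r
        exact e.injective (by rw [hφ, hφ, hφ, hφ, hBB])
      sq := by
        rintro _ ⟨b, rfl⟩ r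
        refine e.injective ?_
        rw [hφ, hφ, ← apply_mul, ← pow_two, hw.pow_p _ (hw.le b.2), map_one]; rfl
      map_comm := by
        rintro _ ⟨b, rfl⟩ r
        refine e.injective ?_
        rw [hφ, hσ', hσ', hφ, ← apply_mul, ← apply_mul, hw.comm_A _ (hw.le b.2) a ha]
      irr := by
        intro I hI hIσ hIB
        refine (hinvar (I.map e.toAddMonoidHom) ?_ ?_ ?_).elim (fun h => ?_) (fun h => ?_)
        rotate_left 3
        · left
          refine (AddSubgroup.eq_bot_iff_forall _).2 fun r hr => e.injective ?_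
          rw [map_zero]
          exact AddSubgroup.mem_bot.1 (h ▸ ⟨r, hr, rfl⟩)
        · right
          refine (AddSubgroup.eq_top_iff' I).2 fun r => ?_
          obtain ⟨r', hr', h'⟩ := (h ▸ AddSubgroup.mem_top (e r) : e r ∈ I.map e.toAddMonoidHom)
          rwa [← e.injective h']
        · rintro g hg _ ⟨r, hr, rfl⟩
          exact ⟨π ⟨g, hg⟩ * r, (hI r hr _).1, rfl⟩
        · rintro _ ⟨r, hr, rfl⟩
          exact ⟨σ' r, hIσ r hr, hσ' r⟩
        · rintro g hg _ ⟨r, hr, rfl⟩
          exact ⟨φ ⟨g, hg⟩ r, hIB _ ⟨⟨g, hg⟩, rfl⟩ r hr, hφ ⟨g, hg⟩ r⟩ }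
  haveI : Finite (AddMonoid.End X) := Finite.of_injective _ DFunLike.coe_injective
  haveI : Finite R := Finite.of_injective _ Subtype.val_injective
  have hbound := hquad.card_fix_lt ((fixA τ A).comap e.toAddMonoidHom) (by
    intro r hr
    have hr' : ∀ c ∈ A, τ c (e r) = e r := hr
    refine ⟨e.injective (by rw [hσ']; exact hr' a ha), ?_⟩
    rintro _ ⟨b, rfl⟩
    exact e.injective (by rw [hφ]; exact hr' b (hw.le b.2)))
  have hC : Nat.card ((fixA τ A).comap e.toAddMonoidHom) = Nat.card (fixA τ A) :=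
    Nat.card_congr (e.toEquiv.subtypeEquiv fun r => Iff.rfl)
  have hRX : Nat.card R = Nat.card X := Nat.card_congr e.toEquiv
  rw [hC, hRX] at hbound
  -- the kernel
  have hker : φ.ker ≤ Q.subgroupOf B := by
    intro b hb
    have hb1 : τ (b : Γ) = 1 := by
      refine AddMonoidHom.ext fun u => ?_
      obtain ⟨r, rfl⟩ := e.surjective u
      show τ (b : Γ) (e r) = e r
      rw [← hφ, MonoidHom.mem_ker.1 hb]; rfl
    have hbi : τ (b : Γ)⁻¹ = 1 := by
      have := map_mul τ (b : Γ)⁻¹ b
      rw [inv_mul_cancel, map_one, hb1, mul_one] at this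
      exact this.symm
    refine hQ b b.2 (K ⊓ kerM τ) inf_le_left ?_ ?_ ?_
    · rintro k hk l ⟨hl, hl1⟩
      refine Subgroup.mem_inf.2 ⟨mul_mem (mul_mem hk hl) (inv_mem hk), mem_kerM.2 ?_⟩
      rw [map_mul, map_mul, mem_kerM.1 hl1, mul_one, ← map_mul, mul_inv_cancel, map_one]
    · intro h
      obtain ⟨k, hk, hk1⟩ := hKX
      exact hk1 (h.ge hk).2
    · intro x hx
      refine Subgroup.mem_inf.2 ⟨mul_mem (hw.norm b b.2 x hx) (inv_mem hx), mem_kerM.2 ?_⟩
      rw [map_mul, map_mul, map_mul, hb1, hbi, one_mul, mul_one, ← map_mul, mul_inv_cancel, map_one]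
  have hBQ : Nat.card B ≤ Nat.card φ.range * Nat.card Q := by
    rw [← Subgroup.index_mul_card φ.ker, Subgroup.index_ker]
    refine Nat.mul_le_mul_left _ ((Nat.card_le_card_of_injective _ (Subgroup.inclusion_injective hker)).trans ?_)
    exact Nat.card_le_card_of_injective (fun b => (⟨_, b.2⟩ : Q))
      fun b c h => Subtype.ext (Subtype.ext (congrArg (fun q : Q => (q : Γ)) h))
  have hAB : Nat.card A ≤ 2 * Nat.card B := by
    rw [show 2 * Nat.card B = Nat.card (Bool × B) by simp [Nat.card_prod]]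
    refine Nat.card_le_card_of_injective (fun c =>
      if h : (c : Γ) ∈ B then (false, ⟨c, h⟩) else (true, ⟨a⁻¹ * c, htwo c c.2 h⟩)) fun c d hcd => ?_
    dsimp only at hcd
    split_ifs at hcd with h1 h3 h3 <;> simp only [Prod.mk.injEq, Subtype.mk.injEq] at hcd
    · exact Subtype.ext hcd.2
    · exact absurd hcd.1 (by decide)
    · exact absurd hcd.1 (by decide)
    · exact Subtype.ext (mul_left_cancel hcd.2)
  have hfixpos : 0 < Nat.card (fixA σ A) := Nat.card_pos
  have h3 : Nat.card X * Nat.card Q ≤ Nat.card A * Nat.card (fixA τ A) := by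
    refine Nat.le_of_mul_le_mul_right ?_ hfixpos
    calc Nat.card X * Nat.card Q * Nat.card (fixA σ A)
        = Nat.card Q * (Nat.card X * Nat.card (fixA σ A)) := by ring
      _ ≤ Nat.card Q * (Nat.card U * Nat.card (fixA τ A)) := Nat.mul_le_mul_left _ hsfix
      _ = Nat.card U * Nat.card Q * Nat.card (fixA τ A) := by ring
      _ ≤ Nat.card A * Nat.card (fixA σ A) * Nat.card (fixA τ A) := Nat.mul_le_mul_right _ hoff
      _ = _ := by ring
  have h4 : Nat.card A * Nat.card (fixA τ A) ≤ Nat.card Q * (2 * Nat.card φ.range * Nat.card (fixA τ A)) := by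
    calc Nat.card A * Nat.card (fixA τ A) ≤ 2 * (Nat.card φ.range * Nat.card Q) * Nat.card (fixA τ A) :=
          Nat.mul_le_mul_right _ (hAB.trans (Nat.mul_le_mul_left _ hBQ))
      _ = _ := by ring
  have h5 := Nat.mul_lt_mul_of_pos_left hbound (Nat.card_pos (α := Q))
  rw [mul_comm (Nat.card X)] at h3
  omega

end CfsgLib.OffComp
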