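import Cfsg.Agent.Lib.OffComp.Basic

/-!
# The fixed-commutator identity forces orbits of length two

Let `A` be an elementary abelian `p`-group whose elements outside `B` move the perfect group `K` to
commuting conjugates. Suppose that for `a ∈ A \ B` and `x ∈ K` the product `d` of the conjugates of
`x` under `⟨a⟩` satisfies `(d - 1)(a - 1) = 0`. Then, on a module irreducible for the conjugates of
`K` with `K` nontrivial, `p = 2` and `B` has index two in `A`.
-/

set_option autoImplicit false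
set_option linter.style.haveILetI false

open Subgroup
open scoped commutatorElement

namespace CfsgLib.OffComp

universe u v

variable {Γ : Type u} [Group Γ] {U : Type v} [AddCommGroup U]

/-- The setting: conjugates of `K` under elements of `A` outside `B` commute with `K`. -/
structure Wr (A B K : Subgroup Γ) (p : ℕ) : Prop where
  perfect : ⁅K, K⁆ = K
  le : B ≤ A
  comm_A : ∀ a ∈ A, ∀ b ∈ A, a * b = b * a
  pow_p : ∀ a ∈ A, a ^ p = 1
  norm : ∀ b ∈ B, ∀ k ∈ K, b * k * b⁻¹ ∈ K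
  comm : ∀ a ∈ A, a ∉ B → ∀ k ∈ K, ∀ l ∈ K, Commute (a * k * a⁻¹) l

/-- The subgroup generated by some of the conjugates. -/
def conjGen (A K : Subgroup Γ) (P : Γ → Prop) : Subgroup Γ :=
  closure {g | ∃ a ∈ A, P a ∧ ∃ k ∈ K, g = a * k * a⁻¹}

/-- Irreducibility for a subgroup. -/
def Irr (σ : Γ →* AddMonoid.End U) (M : Subgroup Γ) : Prop :=
  ∀ S : AddSubgroup U, (∀ g ∈ M, ∀ u ∈ S, σ g u ∈ S) → S = ⊥ ∨ S = ⊤

/-- The partial products of the conjugates of `x`. -/
def prodTo (a : Γ) (n : ℕ) (x : Γ) : Γ := (x * a) ^ n * (a ^ n)⁻¹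

variable {A B K : Subgroup Γ} {p : ℕ} {σ : Γ →* AddMonoid.End U}

theorem map_inv_comm {x : Γ} {E : AddMonoid.End U} (h : σ x * E = E * σ x) :
    σ x⁻¹ * E = E * σ x⁻¹ := by
  have h1 : σ x⁻¹ * σ x = 1 := by rw [← map_mul, inv_mul_cancel, map_one]
  have h2 : σ x * σ x⁻¹ = 1 := by rw [← map_mul, mul_inv_cancel, map_one]
  calc σ x⁻¹ * E = σ x⁻¹ * (E * σ x) * σ x⁻¹ := by rw [mul_assoc, mul_assoc, h2, mul_one]
    _ = E * σ x⁻¹ := by rw [← h, ← mul_assoc, h1, one_mul]

theorem map_inv_congr {x y : Γ} (h : σ x = σ y) : σ x⁻¹ = σ y⁻¹ := by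
  have h1 : σ y * σ y⁻¹ = 1 := by rw [← map_mul, mul_inv_cancel, map_one]
  have h2 : σ x⁻¹ * σ x = 1 := by rw [← map_mul, inv_mul_cancel, map_one]
  calc σ x⁻¹ = σ x⁻¹ * (σ y * σ y⁻¹) := by rw [h1, mul_one]
    _ = σ y⁻¹ := by rw [← h, ← mul_assoc, h2, one_mul]

theorem prodTo_zero (a x : Γ) : prodTo a 0 x = 1 := by simp [prodTo]

theorem prodTo_succ (a x : Γ) (n : ℕ) :
    prodTo a (n + 1) x = prodTo a n x * (a ^ n * x * (a ^ n)⁻¹) := by
  simp only [prodTo, pow_succ, mul_inv_rev]; group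

theorem prodTo_eq (a x : Γ) (h : a ^ p = 1) : prodTo a p x = (x * a) ^ p := by
  simp [prodTo, h]

theorem commute_prodTo {a x y : Γ} {n : ℕ} (h : ∀ i < n, Commute y (a ^ i * x * (a ^ i)⁻¹)) :
    Commute y (prodTo a n x) := by
  induction n with
  | zero => rw [prodTo_zero]; exact Commute.one_right y
  | succ n ih =>
    rw [prodTo_succ]
    exact (ih fun i hi => h i (by omega)).mul_right (h n (by omega))

theorem conjBy_prodTo {a x b : Γ} (hb : Commute b a) (n : ℕ) :
    b * prodTo a n x * b⁻¹ = prodTo a n (b * x * b⁻¹) := by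
  induction n with
  | zero => simp [prodTo_zero]
  | succ n ih =>
    rw [prodTo_succ, prodTo_succ, ← ih]
    have h1 : b * a ^ n = a ^ n * b := (hb.pow_right n).eq
    have h2 : (a ^ n)⁻¹ * b⁻¹ = b⁻¹ * (a ^ n)⁻¹ := by rw [← mul_inv_rev, h1, mul_inv_rev]
    calc b * (prodTo a n x * (a ^ n * x * (a ^ n)⁻¹)) * b⁻¹
        = b * prodTo a n x * b⁻¹ * ((b * a ^ n) * x * ((a ^ n)⁻¹ * b⁻¹)) := by group
      _ = _ := by rw [h1, h2]; group

theorem Wr.not_mem_pow (hw : Wr A B K p) [Fact p.Prime] {a : Γ} (ha : a ∈ A) (haB : a ∉ B) {i : ℕ}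
    (hi : ¬ p ∣ i) : a ^ i ∉ B := by
  intro h
  have hp : p.Prime := Fact.out
  obtain ⟨j, hj⟩ := Nat.exists_mul_mod_eq_one_of_coprime
    ((hp.coprime_iff_not_dvd.2 hi).symm) hp.one_lt
  refine haB ?_
  have h1 : (a ^ i) ^ j = a := by
    rw [← pow_mul, pow_eq_pow_mod _ (hw.pow_p a ha), hj.2, pow_one]
  exact h1 ▸ pow_mem h j

/-- Conjugates in different cosets commute. -/
theorem Wr.comm_two (hw : Wr A B K p) {a c : Γ} (ha : a ∈ A) (hc : c ∈ A) (hac : a⁻¹ * c ∉ B)
    {k l : Γ} (hk : k ∈ K) (hl : l ∈ K) : Commute (a * k * a⁻¹) (c * l * c⁻¹) := by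
  have h := (hw.comm _ (mul_mem (inv_mem ha) hc) hac l hl k hk).map (MulAut.conj a).toMonoidHom
  simp only [MulEquiv.coe_toMonoidHom, MulAut.conj_apply] at h
  have e : a * (a⁻¹ * c * l * (a⁻¹ * c)⁻¹) * a⁻¹ = c * l * c⁻¹ := by group
  rw [e] at h
  exact h.symm

theorem Wr.comm_idx (hw : Wr A B K p) [Fact p.Prime] {a : Γ} (ha : a ∈ A) (haB : a ∉ B) {i j : ℕ}
    (hi : i < p) (hj : j < p) (hij : i ≠ j) {k l : Γ} (hk : k ∈ K) (hl : l ∈ K) :
    Commute (a ^ i * k * (a ^ i)⁻¹) (a ^ j * l * (a ^ j)⁻¹) := by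
  rcases Nat.lt_or_gt_of_ne hij with h | h
  · refine hw.comm_two (pow_mem ha i) (pow_mem ha j) ?_ hk hl
    obtain ⟨r, rfl⟩ := Nat.exists_eq_add_of_lt h
    rw [show (a ^ i)⁻¹ * a ^ (i + r + 1) = a ^ (r + 1) by rw [add_assoc, pow_add, inv_mul_cancel_left]]
    exact hw.not_mem_pow ha haB fun hd => absurd (Nat.le_of_dvd (by omega) hd) (by omega)
  · refine (hw.comm_two (pow_mem ha j) (pow_mem ha i) ?_ hl hk).symm
    obtain ⟨r, rfl⟩ := Nat.exists_eq_add_of_lt h
    rw [show (a ^ j)⁻¹ * a ^ (j + r + 1) = a ^ (r + 1) by rw [add_assoc, pow_add, inv_mul_cancel_left]]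
    exact hw.not_mem_pow ha haB fun hd => absurd (Nat.le_of_dvd (by omega) hd) (by omega)

theorem Wr.prodTo_mul (hw : Wr A B K p) [Fact p.Prime] {a : Γ} (ha : a ∈ A) (haB : a ∉ B)
    {x y : Γ} (hx : x ∈ K) (hy : y ∈ K) {n : ℕ} (hn : n ≤ p) :
    prodTo a n (x * y) = prodTo a n x * prodTo a n y := by
  induction n with
  | zero => simp [prodTo_zero]
  | succ n ih =>
    rw [prodTo_succ, prodTo_succ, prodTo_succ, ih (by omega)]
    have hc : Commute (a ^ n * x * (a ^ n)⁻¹) (prodTo a n y) :=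
      commute_prodTo fun i hi => hw.comm_idx ha haB (by omega) (by omega) (by omega) hx hy
    calc prodTo a n x * prodTo a n y * (a ^ n * (x * y) * (a ^ n)⁻¹)
        = prodTo a n x * (prodTo a n y * (a ^ n * x * (a ^ n)⁻¹)) * (a ^ n * y * (a ^ n)⁻¹) := by group
      _ = _ := by rw [← hc.eq]; group

/-- The product of all conjugates of `x` under `⟨a⟩`, as a homomorphism. -/
def Wr.diag (hw : Wr A B K p) [Fact p.Prime] {a : Γ} (ha : a ∈ A) (haB : a ∉ B) : K →* Γ :=
  MonoidHom.mk' (fun x => ((x : Γ) * a) ^ p) fun x y => by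
    rw [← prodTo_eq a _ (hw.pow_p a ha), ← prodTo_eq a _ (hw.pow_p a ha),
      ← prodTo_eq a _ (hw.pow_p a ha)]
    exact hw.prodTo_mul ha haB x.2 y.2 le_rfl

theorem Wr.diag_commute_conj (hw : Wr A B K p) [Fact p.Prime] {a : Γ} (ha : a ∈ A) (haB : a ∉ B)
    {x : Γ} (hx : x ∈ K) {i : ℕ} (hi : i < p) :
    Commute (a ^ i * x * (a ^ i)⁻¹) ((x * a) ^ p) := by
  rw [← prodTo_eq a _ (hw.pow_p a ha)]
  refine commute_prodTo fun j hj => ?_
  rcases eq_or_ne i j with rfl | h
  · exact Commute.refl _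
  · exact hw.comm_idx ha haB hi hj h hx hx

theorem Wr.diag_commute_a (hw : Wr A B K p) [hpf : Fact p.Prime] {a : Γ} (ha : a ∈ A) (haB : a ∉ B)
    {x : Γ} (hx : x ∈ K) : Commute a ((x * a) ^ p) := by
  have h1 : Commute x ((x * a) ^ p) := by
    simpa using hw.diag_commute_conj ha haB hx (i := 0) hpf.out.pos
  have h2 : Commute (x * a) ((x * a) ^ p) := Commute.self_pow _ _
  have h3 := h1.inv_left.mul_left h2
  simpa using h3

/-- The identity. -/
def Ident (σ : Γ →* AddMonoid.End U) (A B K : Subgroup Γ) (p : ℕ) : Prop :=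
  ∀ a ∈ A, a ∉ B → ∀ x ∈ K, (σ ((x * a) ^ p) - 1) * (σ a - 1) = 0

/-- The identity against elements commuting with the product. -/
theorem Ident.sub_eq_zero (hid : Ident σ A B K p) {a x k : Γ} (ha : a ∈ A) (haB : a ∉ B)
    (hx : x ∈ K) (hk : Commute k ((x * a) ^ p)) :
    (σ ((x * a) ^ p) - 1) * (σ k - σ (a * k * a⁻¹)) = 0 := by
  set D := σ ((x * a) ^ p) - 1 with hD
  have h0 : D * (σ a - 1) = 0 := hid a ha haB x hx
  have hDk : σ k * D = D * σ k := by
    rw [hD, mul_sub, sub_mul, mul_one, one_mul, ← map_mul, ← map_mul, hk.eq]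
  have hconj : σ k * (σ a - 1) * σ k⁻¹ = σ (k * a * k⁻¹) - 1 := by
    have h1 : σ k * σ k⁻¹ = 1 := by rw [← map_mul, mul_inv_cancel, map_one]
    rw [mul_sub, sub_mul, mul_one, h1, map_mul σ (k * a) k⁻¹, map_mul σ k a]
  have h1 : D * (σ (k * a * k⁻¹) - 1) = 0 := by
    rw [← hconj, ← mul_assoc, ← mul_assoc, ← hDk, mul_assoc (σ k), h0, mul_zero, zero_mul]
  have h2 : D * (σ (k * a * k⁻¹) - σ a) = 0 := by
    rw [show σ (k * a * k⁻¹) - σ a = (σ (k * a * k⁻¹) - 1) - (σ a - 1) by abel, mul_sub, h1, h0,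
      sub_zero]
  have hright : (σ (k * a * k⁻¹) - σ a) * σ (k * a⁻¹) = σ k - σ (a * k * a⁻¹) := by
    rw [sub_mul, ← map_mul σ (k * a * k⁻¹) (k * a⁻¹), ← map_mul σ a (k * a⁻¹)]
    congr 2 <;> group
  rw [← hright, ← mul_assoc, h2, zero_mul]

/-- Two commuting parts of an irreducible group cannot separate a zero product. -/
theorem eq_zero_or_eq_zero {M1 M2 N : Subgroup Γ} (hirr : Irr σ N) (hN : N ≤ M1 ⊔ M2)
    (hcomm : M1 ≤ centralizer (M2 : Set Γ)) {E F : AddMonoid.End U}
    (hE : ∀ g ∈ M1, σ g * E = E * σ g) (hF : ∀ g ∈ M2, σ g * F = F * σ g) (hEF : E * F = 0) :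
    E = 0 ∨ F = 0 := by
  let P : Subgroup Γ :=
    { carrier := {n | ∃ a ∈ M1, ∃ b ∈ M2, n = a * b}
      one_mem' := ⟨1, one_mem _, 1, one_mem _, (mul_one 1).symm⟩
      mul_mem' := by
        rintro _ _ ⟨a, ha, b, hb, rfl⟩ ⟨a', ha', b', hb', rfl⟩
        refine ⟨a * a', mul_mem ha ha', b * b', mul_mem hb hb', ?_⟩
        have := mem_centralizer_iff.1 (hcomm ha') b hb
        rw [mul_assoc, ← mul_assoc b, this]; group
      inv_mem' := by
        rintro _ ⟨a, ha, b, hb, rfl⟩
        refine ⟨a⁻¹, inv_mem ha, b⁻¹, inv_mem hb, ?_⟩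
        rw [mem_centralizer_iff.1 (hcomm (inv_mem ha)) b⁻¹ (inv_mem hb) |>.symm, mul_inv_rev] }
  have hNP : N ≤ P := hN.trans (sup_le (fun g hg => ⟨g, hg, 1, one_mem _, (mul_one g).symm⟩)
    fun g hg => ⟨1, one_mem _, g, hg, (one_mul g).symm⟩)
  let S : AddSubgroup U :=
    { carrier := {v | ∀ n ∈ N, E (σ n v) = 0}
      zero_mem' := fun n _ => by rw [map_zero, map_zero]
      add_mem' := fun hu hw n hn => by rw [map_add, map_add, hu n hn, hw n hn, add_zero]
      neg_mem' := fun hu n hn => by rw [map_neg, map_neg, hu n hn, neg_zero] }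
  rcases hirr S (fun g hg u hu n hn => by rw [← apply_mul]; exact hu _ (mul_mem hn hg)) with h | h
  · right
    refine AddMonoidHom.ext fun v => ?_
    have hv : F v ∈ S := by
      intro n hn
      obtain ⟨a, ha, b, hb, rfl⟩ := hNP hn
      have e : E * σ (a * b) * F = 0 := by
        rw [map_mul, ← mul_assoc, ← hE a ha, mul_assoc _ (σ b), hF b hb, ← mul_assoc, mul_assoc (σ a),
          hEF, mul_zero, zero_mul]
      exact DFunLike.congr_fun e v
    rw [h] at hv
    exact hv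
  · left
    refine AddMonoidHom.ext fun v => ?_
    have hv : v ∈ S := h ▸ AddSubgroup.mem_top v
    have := hv 1 (one_mem N)
    rwa [map_one] at this

theorem conjGen_le_sup (A K : Subgroup Γ) (P : Γ → Prop) :
    conjGen A K (fun _ => True) ≤ conjGen A K P ⊔ conjGen A K (fun a => ¬ P a) := by
  refine (closure_le _).2 ?_
  rintro _ ⟨a, ha, -, k, hk, rfl⟩
  by_cases h : P a
  · exact mem_sup_left (subset_closure ⟨a, ha, h, k, hk, rfl⟩)
  · exact mem_sup_right (subset_closure ⟨a, ha, h, k, hk, rfl⟩)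

theorem Wr.conjGen_commute (hw : Wr A B K p) {P Q : Γ → Prop}
    (h : ∀ a ∈ A, ∀ c ∈ A, P a → Q c → a⁻¹ * c ∉ B) :
    conjGen A K P ≤ centralizer (conjGen A K Q : Set Γ) := by
  rw [conjGen, conjGen, centralizer_closure, closure_le]
  rintro _ ⟨a, ha, hPa, k, hk, rfl⟩
  rw [SetLike.mem_coe, mem_centralizer_iff]
  rintro _ ⟨c, hc, hQc, l, hl, rfl⟩
  exact (hw.comm_two ha hc (h a ha c hc hPa hQc) hk hl).eq.symm

theorem commute_of_mem_conjGen {P : Γ → Prop} {E : AddMonoid.End U}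
    (h : ∀ a ∈ A, P a → ∀ k ∈ K, σ (a * k * a⁻¹) * E = E * σ (a * k * a⁻¹)) :
    ∀ g ∈ conjGen A K P, σ g * E = E * σ g := by
  intro g hg
  induction hg using closure_induction with
  | mem x hx => obtain ⟨a, ha, hPa, k, hk, rfl⟩ := hx; exact h a ha hPa k hk
  | one => rw [map_one, one_mul, mul_one]
  | mul x y _ _ hx hy => rw [map_mul, mul_assoc, hy, ← mul_assoc, hx, mul_assoc]
  | inv x _ hx =>
    calc σ x⁻¹ * E = σ x⁻¹ * (E * σ x) * σ x⁻¹ := by
          rw [mul_assoc, mul_assoc, ← map_mul, mul_inv_cancel, map_one, mul_one]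
      _ = E * σ x⁻¹ := by rw [← hx, ← mul_assoc, ← map_mul, inv_mul_cancel, map_one, one_mul]

/-- A conjugate on which the identity says nothing is killed. -/
theorem Wr.eq_one_of_eq_conj (hw : Wr A B K p) {c e : Γ} (hc : c ∈ A) (he : e ∈ A) (hce : c⁻¹ * e ∉ B)
    (h : ∀ k ∈ K, σ (c * k * c⁻¹) = σ (e * k * e⁻¹)) : ∀ k ∈ K, σ (c * k * c⁻¹) = 1 := by
  refine fun k hk => map_eq_one_of_comm (σ.comp (MulAut.conj c).toMonoidHom) hw.perfect
    (fun x hx y hy => ?_) k hk
  show σ (c * x * c⁻¹) * σ (c * y * c⁻¹) = σ (c * y * c⁻¹) * σ (c * x * c⁻¹)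
  rw [h y hy, ← map_mul, ← map_mul, (hw.comm_two hc he hce hx hy).eq]

/-- If all conjugates but `K` are killed, so is `K`. -/
theorem Wr.eq_one_of_others (hw : Wr A B K p) [hpf : Fact p.Prime] (hp : ∀ u : U, p • u = 0) [Finite U]
    (hid : Ident σ A B K p) {a : Γ} (ha : a ∈ A) (haB : a ∉ B)
    (h : ∀ i, 1 ≤ i → i < p → ∀ k ∈ K, σ (a ^ i * k * (a ^ i)⁻¹) = 1) : ∀ x ∈ K, σ x = 1 := by
  haveI : Finite (AddMonoid.End U) := Finite.of_injective _ DFunLike.coe_injective
  refine map_eq_one_of_pow σ hw.perfect (p := p) fun x hx => ⟨1, ?_⟩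
  have hd : ∀ n, n ≤ p → 1 ≤ n → σ (prodTo a n x) = σ x := by
    intro n hn h1
    induction n with
    | zero => omega
    | succ n ih =>
      rw [prodTo_succ, map_mul]
      rcases Nat.eq_zero_or_pos n with rfl | hpos
      · simp [prodTo_zero]
      · rw [ih (by omega) hpos, h n hpos (by omega) x hx, mul_one]
  have hk : Commute x ((x * a) ^ p) := by simpa using hw.diag_commute_conj ha haB hx (i := 0) hpf.out.pos
  have h2 := hid.sub_eq_zero ha haB hx hk
  have h1 : σ (a * x * a⁻¹) = 1 := by simpa using h 1 le_rfl hpf.out.one_lt x hx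
  rw [← prodTo_eq a x (hw.pow_p a ha), hd p le_rfl hpf.out.one_lt.le, h1] at h2
  have h0 : (p : AddMonoid.End U) = 0 := AddMonoidHom.ext hp
  obtain ⟨r, hr⟩ := (Commute.one_right (σ x - 1)).exists_add_pow_prime_eq hpf.out
  rw [sub_add_cancel, one_pow, h0, zero_mul, zero_mul, zero_mul, add_zero] at hr
  have h3 : (σ x - 1) ^ p = 0 := by
    rw [show p = 2 + (p - 2) by have := hpf.out.two_le; omega, pow_add, pow_two, h2, zero_mul]
  rw [h3, zero_add] at hr
  rw [pow_one]
  exact hr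

/-- A group is not the union of two proper subgroups. -/
theorem le_or_le_of_subset_union {S C D : Subgroup Γ} (h : ∀ x ∈ S, x ∈ C ∨ x ∈ D) : S ≤ C ∨ S ≤ D := by
  by_contra hne
  rw [not_or, SetLike.not_le_iff_exists, SetLike.not_le_iff_exists] at hne
  obtain ⟨⟨x, hxS, hxC⟩, ⟨y, hyS, hyD⟩⟩ := hne
  have hxD := (h x hxS).resolve_left hxC
  have hyC := (h y hyS).resolve_right hyD
  rcases h _ (mul_mem hxS hyS) with h' | h'
  · exact hxC (by simpa using mul_mem h' (inv_mem hyC))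
  · exact hyD (by simpa using mul_mem (inv_mem hxD) h')

theorem Wr.prime_two (hw : Wr A B K p) [hpf : Fact p.Prime] (hp : ∀ u : U, p • u = 0) [Finite U]
    (hid : Ident σ A B K p) (hirr : Irr σ (conjGen A K fun _ => True)) {a : Γ} (ha : a ∈ A)
    (haB : a ∉ B) (hK : ∃ k ∈ K, σ k ≠ 1) : p = 2 := by
  by_contra hp2
  have hp3 : 3 ≤ p := by have := hpf.out.two_le; omega
  have key : ∀ i, 1 ≤ i → i + 1 < p → ∀ k ∈ K,
      σ (a ^ i * k * (a ^ i)⁻¹) = 1 ∧ σ (a ^ (i + 1) * k * (a ^ (i + 1))⁻¹) = 1 := by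
    intro i h1 h2
    let C : Subgroup Γ :=
      { carrier := {x | ∀ y ∈ K, σ y * σ x = σ x * σ y}
        one_mem' := fun y _ => by rw [map_one, mul_one, one_mul]
        mul_mem' := fun {x z} hx hz y hy => by
          rw [map_mul, ← mul_assoc, hx y hy, mul_assoc, hz y hy, mul_assoc]
        inv_mem' := fun {x} hx y hy => (map_inv_comm (hx y hy).symm).symm }
    let D : Subgroup Γ :=
      { carrier := {x | σ (a ^ i * x * (a ^ i)⁻¹) = σ (a ^ (i + 1) * x * (a ^ (i + 1))⁻¹)}
        one_mem' := by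
          show σ (a ^ i * 1 * (a ^ i)⁻¹) = σ (a ^ (i + 1) * 1 * (a ^ (i + 1))⁻¹)
          rw [mul_one, mul_one, mul_inv_cancel, mul_inv_cancel]
        mul_mem' := fun {x z} hx hz => by
          show σ (a ^ i * (x * z) * (a ^ i)⁻¹) = σ (a ^ (i + 1) * (x * z) * (a ^ (i + 1))⁻¹)
          have hm : ∀ c : Γ, σ (c * (x * z) * c⁻¹) = σ (c * x * c⁻¹) * σ (c * z * c⁻¹) := fun c => by
            rw [← map_mul σ (c * x * c⁻¹)]; congr 1; group
          rw [hm, hm, show σ (a ^ i * x * (a ^ i)⁻¹) = _ from hx,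
            show σ (a ^ i * z * (a ^ i)⁻¹) = _ from hz]
        inv_mem' := fun {x} hx => by
          show σ (a ^ i * x⁻¹ * (a ^ i)⁻¹) = σ (a ^ (i + 1) * x⁻¹ * (a ^ (i + 1))⁻¹)
          have e : ∀ c : Γ, c * x⁻¹ * c⁻¹ = (c * x * c⁻¹)⁻¹ := fun c => by group
          rw [e, e]
          exact map_inv_congr hx }
    have hunion : ∀ x ∈ K, x ∈ C ∨ x ∈ D := by
      intro x hx
      by_cases hC : x ∈ C
      · exact Or.inl hC
      right
      obtain ⟨y, hy, hyx⟩ : ∃ y ∈ K, σ y * σ x ≠ σ x * σ y := by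
        by_contra h
        push Not at h
        exact hC h
      set d := (x * a) ^ p with hd
      set F := σ (a ^ i * x * (a ^ i)⁻¹) - σ (a ^ (i + 1) * x * (a ^ (i + 1))⁻¹) with hF
      have hDF : (σ d - 1) * F = 0 := by
        have := hid.sub_eq_zero ha haB hx (hw.diag_commute_conj ha haB hx (i := i) (by omega))
        rwa [show a * (a ^ i * x * (a ^ i)⁻¹) * a⁻¹ = a ^ (i + 1) * x * (a ^ (i + 1))⁻¹ by
          rw [pow_succ']; group] at this
      have hyF : σ y * F = F * σ y := by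
        have hyX : ∀ j, 1 ≤ j → j < p → Commute y (a ^ j * x * (a ^ j)⁻¹) := fun j hj hjp => by
          simpa using hw.comm_idx ha haB (i := 0) (j := j) hpf.out.pos hjp (by omega) hy hx
        rw [hF, mul_sub, sub_mul, ← map_mul, ← map_mul, ← map_mul, ← map_mul,
          (hyX i h1 (by omega)).eq, (hyX (i + 1) (by omega) h2).eq]
      have hrest : Commute y (x⁻¹ * d) := by
        have hP : ∀ n, n ≤ p → 1 ≤ n → Commute y (x⁻¹ * prodTo a n x) := by
          intro n hn hn1
          induction n with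
          | zero => omega
          | succ n ih =>
            rw [prodTo_succ, ← mul_assoc]
            rcases Nat.eq_zero_or_pos n with rfl | hpos
            · simp [prodTo_zero]
            · refine (ih (by omega) hpos).mul_right ?_
              simpa using hw.comm_idx ha haB (i := 0) (j := n) hpf.out.pos (by omega) (by omega) hy hx
        rw [hd, ← prodTo_eq a x (hw.pow_p a ha)]
        exact hP p le_rfl hpf.out.one_lt.le
      have hEF : (σ (y * x * y⁻¹ * x⁻¹) - 1) * F = 0 := by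
        have e : y * d * y⁻¹ = y * x * y⁻¹ * x⁻¹ * d := by
          calc y * d * y⁻¹ = y * x * (x⁻¹ * d) * y⁻¹ := by group
            _ = y * x * (y⁻¹ * (x⁻¹ * d)) := by rw [mul_assoc _ _ y⁻¹, ← hrest.inv_left.eq]
            _ = _ := by group
        have h3 : (σ (y * d * y⁻¹) - 1) * F = 0 := by
          have h1 : σ y * σ y⁻¹ = 1 := by rw [← map_mul, mul_inv_cancel, map_one]
          have hc : σ (y * d * y⁻¹) - 1 = σ y * (σ d - 1) * σ y⁻¹ := by
            rw [mul_sub, sub_mul, mul_one, h1, map_mul σ (y * d) y⁻¹, map_mul σ y d]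
          rw [hc, mul_assoc _ (σ y⁻¹), map_inv_comm hyF, ← mul_assoc, mul_assoc (σ y), hDF, mul_zero,
            zero_mul]
        have hdF : σ d * F = F := by rwa [sub_mul, one_mul, sub_eq_zero] at hDF
        rw [e, map_mul σ (y * x * y⁻¹ * x⁻¹) d, sub_mul, mul_assoc, hdF, ← sub_mul] at h3
        exact h3
      let P : Γ → Prop := fun c => (a ^ i)⁻¹ * c ∈ B ∨ (a ^ (i + 1))⁻¹ * c ∈ B
      refine (eq_zero_or_eq_zero hirr (conjGen_le_sup A K P) (hw.conjGen_commute ?_)
        (commute_of_mem_conjGen (P := P) ?_) (commute_of_mem_conjGen (P := fun c => ¬ P c) ?_) hEF).elim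
        (fun h => ?_) (fun h => sub_eq_zero.1 h)
      rotate_left 3
      · exfalso
        rw [sub_eq_zero] at h
        refine hyx ?_
        calc σ y * σ x = σ (y * x * y⁻¹ * x⁻¹) * (σ x * σ y) := by
              rw [← map_mul, ← map_mul, ← map_mul]; congr 1; group
          _ = σ x * σ y := by rw [h, one_mul]
      · intro c hc e he hPc hQe hmem
        refine hQe ?_
        rcases hPc with h' | h'
        · exact Or.inl (by simpa [mul_assoc] using mul_mem h' hmem)
        · exact Or.inr (by simpa [mul_assoc] using mul_mem h' hmem)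
      · intro c hc hPc k hk
        have hcB : c ∉ B := by
          intro hcB
          rcases hPc with h' | h'
          · exact hw.not_mem_pow ha haB (fun hdv => absurd (Nat.le_of_dvd h1 hdv) (by omega))
              (by simpa using inv_mem (mul_mem h' (inv_mem hcB)))
          · exact hw.not_mem_pow ha haB (fun hdv => absurd (Nat.le_of_dvd (Nat.succ_pos i) hdv) (by omega))
              (by simpa using inv_mem (mul_mem h' (inv_mem hcB)))
        have hcm : Commute (c * k * c⁻¹) (y * x * y⁻¹ * x⁻¹) :=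
          hw.comm c hc hcB k hk _ (mul_mem (mul_mem (mul_mem hy hx) (inv_mem hy)) (inv_mem hx))
        rw [mul_sub, sub_mul, mul_one, one_mul, ← map_mul, ← map_mul, hcm.eq]
      · intro c hc hQc k hk
        have h3 := hw.comm_two hc (pow_mem ha i) (fun h' => hQc (Or.inl (by simpa using inv_mem h'))) hk hx
        have h4 := hw.comm_two hc (pow_mem ha (i + 1))
          (fun h' => hQc (Or.inr (by simpa using inv_mem h'))) hk hx
        rw [mul_sub, sub_mul, ← map_mul, ← map_mul, ← map_mul, ← map_mul, h3.eq, h4.eq]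
    rcases le_or_le_of_subset_union hunion with h | h
    · obtain ⟨k, hk, hk1⟩ := hK
      exact absurd (map_eq_one_of_comm σ hw.perfect (fun x hx y hy => h hy x hx) k hk) hk1
    · intro k hk
      have hne : (a ^ i)⁻¹ * a ^ (i + 1) ∉ B := by rwa [pow_succ, inv_mul_cancel_left]
      have e1 := hw.eq_one_of_eq_conj (σ := σ) (pow_mem ha i) (pow_mem ha (i + 1)) hne (fun k hk => h hk) k hk
      exact ⟨e1, by rw [← show σ _ = σ _ from h hk]; exact e1⟩
  obtain ⟨k, hk, hk1⟩ := hK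
  refine hk1 (hw.eq_one_of_others hp hid ha haB (fun i h1 h2 k hk => ?_) k hk)
  by_cases h : i + 1 < p
  · exact (key i h1 h k hk).1
  · obtain ⟨j, rfl⟩ : ∃ j, i = j + 1 := ⟨i - 1, by omega⟩
    exact (key j (by omega) (by omega) k hk).2

/-- With the identity, `B` has index two and `p = 2`. -/
theorem Wr.two_cosets (hw : Wr A B K p) [hpf : Fact p.Prime] (hp : ∀ u : U, p • u = 0) [Finite U]
    (hid : Ident σ A B K p) (hirr : Irr σ (conjGen A K fun _ => True)) (hK : ∃ k ∈ K, σ k ≠ 1)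
    {a a' : Γ} (ha : a ∈ A) (ha' : a' ∈ A) (haB : a ∉ B) (haB' : a' ∉ B) : a⁻¹ * a' ∈ B := by
  have hp2 := hw.prime_two hp hid hirr ha haB hK
  subst hp2
  by_contra hne
  have others : ∀ a a', a ∈ A → a' ∈ A → a ∉ B → a' ∉ B → a⁻¹ * a' ∉ B →
      ∀ k ∈ K, σ (a' * k * a'⁻¹) = 1 := by
    intro a a' ha ha' haB haB' hne
    have hinv : ∀ c ∈ A, c⁻¹ = c := fun c hc => inv_eq_of_mul_eq_one_right (by rw [← pow_two, hw.pow_p c hc])
    by_cases hd : ∀ x ∈ K, σ ((x * a) ^ 2) = 1
    · exfalso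
      obtain ⟨k, hk, hk1⟩ := hK
      refine hk1 (map_eq_one_of_comm σ hw.perfect (fun x hx y hy => ?_) k hk)
      have h := hd x hx
      rw [← prodTo_eq a x (hw.pow_p a ha)] at h
      simp only [prodTo_succ, prodTo_zero, pow_zero, pow_one, one_mul, inv_one, mul_one] at h
      set z := a * x * a⁻¹ with hz
      have hyz : Commute z y := hw.comm a ha haB x hx y hy
      have hσx : σ x = σ z⁻¹ := by
        calc σ x = σ (x * z) * σ z⁻¹ := by rw [← map_mul, mul_inv_cancel_right]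
          _ = σ z⁻¹ := by rw [h, one_mul]
      rw [hσx, ← map_mul, ← map_mul, hyz.inv_left.eq]
    push Not at hd
    obtain ⟨x, hx, hx1⟩ := hd
    intro k hk
    refine hw.eq_one_of_eq_conj (σ := σ) ha' (mul_mem ha ha') (c := a') (e := a * a') ?_ (fun l hl => ?_) k hk
    · rwa [show a'⁻¹ * (a * a') = a by rw [hw.comm_A a ha a' ha', inv_mul_cancel_left]]
    let P : Γ → Prop := fun c => ¬ (c ∈ B ∨ a⁻¹ * c ∈ B)
    have hl' : Commute (a' * l * a'⁻¹) ((x * a) ^ 2) := by
      rw [← prodTo_eq a x (hw.pow_p a ha)]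
      refine commute_prodTo fun i hi => ?_
      refine hw.comm_two ha' (pow_mem ha i) ?_ hl hx
      interval_cases i
      · simpa using haB'
      · intro h'
        exact hne (by simpa using inv_mem h')
    have hEF : (σ ((x * a) ^ 2) - 1) * (σ (a' * l * a'⁻¹) - σ (a * a' * l * (a * a')⁻¹)) = 0 := by
      have h := hid.sub_eq_zero ha haB hx hl'
      rwa [show a * (a' * l * a'⁻¹) * a⁻¹ = a * a' * l * (a * a')⁻¹ by group] at h
    refine (eq_zero_or_eq_zero hirr (conjGen_le_sup A K P) (hw.conjGen_commute ?_)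
      (commute_of_mem_conjGen (P := P) ?_) (commute_of_mem_conjGen (P := fun c => ¬ P c) ?_) hEF).elim
      (fun h => absurd (sub_eq_zero.1 h) hx1) (fun h => sub_eq_zero.1 h)
    · intro c hc e he hPc hQe hmem
      refine hPc ?_
      rcases not_not.1 hQe with h' | h'
      · exact Or.inl (by simpa [mul_assoc] using mul_mem h' (inv_mem hmem))
      · exact Or.inr (by simpa [mul_assoc] using mul_mem h' (inv_mem hmem))
    · intro c hc hPc m hm
      have hcm : Commute (c * m * c⁻¹) ((x * a) ^ 2) := by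
        rw [← prodTo_eq a x (hw.pow_p a ha)]
        refine commute_prodTo fun i hi => hw.comm_two hc (pow_mem ha i) (fun h' => hPc ?_) hm hx
        interval_cases i
        · exact Or.inl (by simpa using inv_mem h')
        · exact Or.inr (by simpa using inv_mem h')
      rw [mul_sub, sub_mul, mul_one, one_mul, ← map_mul, ← map_mul, hcm.eq]
    · intro c hc hQc m hm
      have hQ := not_not.1 hQc
      have h1 : c⁻¹ * a' ∉ B := by
        intro h'
        rcases hQ with h'' | h''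
        · exact haB' (by simpa [mul_assoc] using mul_mem h'' h')
        · exact hne (by simpa [mul_assoc] using mul_mem h'' h')
      have h2 : c⁻¹ * (a * a') ∉ B := by
        intro h'
        rcases hQ with h'' | h''
        · have : a * a' ∈ B := by simpa [mul_assoc] using mul_mem h'' h'
          exact hne (by rwa [hinv a ha])
        · have : a⁻¹ * (a * a') ∈ B := by simpa [mul_assoc] using mul_mem h'' h'
          exact haB' (by simpa using this)
      rw [mul_sub, sub_mul, ← map_mul, ← map_mul, ← map_mul, ← map_mul,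
        (hw.comm_two hc ha' h1 hm hl).eq, (hw.comm_two hc (mul_mem ha ha') h2 hm hl).eq]
  have hne' : a'⁻¹ * a ∉ B := fun h => hne (by simpa using inv_mem h)
  have h1 := others a' a ha' ha haB' haB hne'
  obtain ⟨k, hk, hk1⟩ := hK
  refine hk1 (hw.eq_one_of_others hp hid ha haB (fun i h1' h2 l hl => ?_) k hk)
  obtain rfl : i = 1 := by omega
  simpa using h1 l hl

end CfsgLib.OffComp
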