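import Cfsg.Agent.Lib.OffComp.Regular
import Cfsg.Agent.Lib.Fusion.OffenderReplacement

/-!
# Best offenders normalize quasisimple subgroups with commuting conjugates
-/

set_option autoImplicit false
set_option linter.style.haveILetI false

open Subgroup
open scoped commutatorElement

namespace CfsgLib.OffComp

universe u v

variable {Γ : Type u} [Group Γ] {A B K : Subgroup Γ} {p : ℕ} {U : Type v} [AddCommGroup U]
  {σ : Γ →* AddMonoid.End U}

/-- The elements of `A` fixing all `[c, u]` for `u` in a set. -/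
def repl (σ : Γ →* AddMonoid.End U) (A : Subgroup Γ) (s : Set U) : Subgroup Γ where
  carrier := {g | g ∈ A ∧ ∀ u ∈ s, ∀ c ∈ A, σ g (σ c u - u) = σ c u - u}
  one_mem' := ⟨one_mem A, fun u _ c _ => by rw [map_one]; rfl⟩
  mul_mem' := fun {x y} hx hy => ⟨mul_mem hx.1 hy.1, fun u hu c hc => by
    rw [apply_mul, hy.2 u hu c hc, hx.2 u hu c hc]⟩
  inv_mem' := fun {x} hx => ⟨inv_mem hx.1, fun u hu c hc => by
    conv_lhs => rw [← hx.2 u hu c hc, apply_inv_apply]⟩

/-- The subgroup generated by the `[c, u]` and the fixed points. -/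
def replSpan (σ : Γ →* AddMonoid.End U) (A : Subgroup Γ) (s : Set U) : AddSubgroup U :=
  AddSubgroup.closure {w | ∃ u ∈ s, ∃ c ∈ A, w = σ c u - u} ⊔ fixA σ A

theorem replSpan_le (s : Set U) : replSpan σ A s ≤ fixA σ (repl σ A s) := by
  refine sup_le ((AddSubgroup.closure_le _).2 ?_) (fixA_mono fun g hg => hg.1)
  rintro _ ⟨u, hu, c, hc, rfl⟩ g hg
  exact hg.2 u hu c hc

theorem repl_union (s t : Set U) : repl σ A (s ∪ t) = repl σ A s ⊓ repl σ A t := by
  ext g
  constructor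
  · exact fun h => ⟨⟨h.1, fun u hu => h.2 u (Or.inl hu)⟩, h.1, fun u hu => h.2 u (Or.inr hu)⟩
  · rintro ⟨h1, h2⟩
    exact ⟨h1.1, fun u hu => hu.elim (h1.2 u) (h2.2 u)⟩

theorem replSpan_union (s t : Set U) : replSpan σ A (s ∪ t) = replSpan σ A s ⊔ replSpan σ A t := by
  have e : {w | ∃ u ∈ s ∪ t, ∃ c ∈ A, w = σ c u - u} =
      {w | ∃ u ∈ s, ∃ c ∈ A, w = σ c u - u} ∪ {w | ∃ u ∈ t, ∃ c ∈ A, w = σ c u - u} := by
    ext w
    constructor
    · rintro ⟨u, hu | hu, h⟩
      · exact Or.inl ⟨u, hu, h⟩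
      · exact Or.inr ⟨u, hu, h⟩
    · rintro (⟨u, hu, h⟩ | ⟨u, hu, h⟩)
      · exact ⟨u, Or.inl hu, h⟩
      · exact ⟨u, Or.inr hu, h⟩
  rw [replSpan, e, AddSubgroup.closure_union, sup_sup_distrib_right]
  rfl

theorem card_sup_mul_inf' [Finite U] (P Q : AddSubgroup U) :
    Nat.card (P ⊔ Q : AddSubgroup U) * Nat.card (P ⊓ Q : AddSubgroup U) = Nat.card P * Nat.card Q := by
  have e1 : Q.relIndex P * Nat.card (P ⊓ Q : AddSubgroup U) = Nat.card P := by
    rw [← AddSubgroup.inf_relIndex_left, mul_comm, ← AddSubgroup.relIndex_bot_left,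
      AddSubgroup.relIndex_mul_relIndex _ _ _ bot_le inf_le_left, AddSubgroup.relIndex_bot_left]
  have e2 : Nat.card Q * Q.relIndex P = Nat.card (P ⊔ Q : AddSubgroup U) := by
    rw [← AddSubgroup.relIndex_sup_right P Q, ← AddSubgroup.relIndex_bot_left,
      AddSubgroup.relIndex_mul_relIndex _ _ _ bot_le le_sup_right, AddSubgroup.relIndex_bot_left]
  rw [← e2, ← e1]; ring

/-- Timmesfeld's replacement. -/
theorem repl_eq [Finite Γ] [Finite U] (hc : ∀ a ∈ A, ∀ b ∈ A, a * b = b * a) {Q : Subgroup Γ}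
    (hQA : Q ≤ A) (hQ1 : ∀ q ∈ Q, σ q = 1)
    (hmax : ∀ H : Subgroup Γ, Q ≤ H → H ≤ A →
      Nat.card H * Nat.card (fixA σ H) ≤ Nat.card A * Nat.card (fixA σ A)) (s : Set U) :
    Q ≤ repl σ A s ∧
    Nat.card (repl σ A s) * Nat.card (fixA σ (repl σ A s)) = Nat.card A * Nat.card (fixA σ A) ∧
      fixA σ (repl σ A s) = replSpan σ A s := by
  classical
  have hQr : ∀ t : Set U, Q ≤ repl σ A t := fun t q hq =>
    ⟨hQA hq, fun u _ c _ => by rw [hQ1 q hq]; rfl⟩
  refine ⟨hQr s, ?_⟩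
  have hone : ∀ u : U, Nat.card (repl σ A {u}) * Nat.card (fixA σ (repl σ A {u})) =
      Nat.card A * Nat.card (fixA σ A) ∧ fixA σ (repl σ A {u}) = replSpan σ A {u} := by
    intro u
    set R := repl σ A ({u} : Set U) with hR
    set W := replSpan σ A ({u} : Set U) with hW
    have hZW : fixA σ A ≤ W := le_sup_right
    have hmem : ∀ c : A, σ c u - u ∈ W := fun c =>
      AddSubgroup.mem_sup_left (AddSubgroup.subset_closure ⟨u, rfl, c, c.2, rfl⟩)
    have hidx : (R.subgroupOf A).index ≤ ((fixA σ A).addSubgroupOf W).index := by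
      refine Nat.card_le_card_of_injective
        (fun q => (QuotientAddGroup.mk ⟨σ (q.out : A) u - u, hmem q.out⟩ : W ⧸ (fixA σ A).addSubgroupOf W))
        fun q r hqr => ?_
      rw [← QuotientGroup.out_eq' q, ← QuotientGroup.out_eq' r, QuotientGroup.eq, mem_subgroupOf]
      set c : Γ := ((q.out : A) : Γ) with hcdef
      set c' : Γ := ((r.out : A) : Γ) with hc'def
      have hcA : c ∈ A := (q.out : A).2
      have hc'A : c' ∈ A := (r.out : A).2
      have hz : -(σ c u - u) + (σ c' u - u) ∈ fixA σ A :=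
        AddSubgroup.mem_addSubgroupOf.1 (QuotientAddGroup.eq.1 hqr)
      show c⁻¹ * c' ∈ R
      have hz' : σ c' u - σ c u ∈ fixA σ A := by
        rwa [show -(σ c u - u) + (σ c' u - u) = σ c' u - σ c u by abel] at hz
      have hdu : σ (c⁻¹ * c') u - u = σ c' u - σ c u := by
        rw [← hz' c⁻¹ (inv_mem hcA), map_sub, apply_inv_apply, apply_mul]
      refine ⟨mul_mem (inv_mem hcA) hc'A, ?_⟩
      rintro v hv e he
      rw [Set.mem_singleton_iff] at hv
      subst hv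
      have h1 : σ (c⁻¹ * c') (σ e v) = σ e (σ (c⁻¹ * c') v) := by
        rw [← apply_mul, hc _ (mul_mem (inv_mem hcA) hc'A) e he, apply_mul]
      have h2 : σ (c⁻¹ * c') v = v + (σ c' v - σ c v) := by rw [← hdu]; abel
      rw [map_sub, h1, h2, map_add, hz' e he]
      abel
    have h1 : Nat.card A * Nat.card (fixA σ A) ≤ Nat.card R * Nat.card W := by
      rw [← Subgroup.index_mul_card (R.subgroupOf A), card_subgroupOf (show R ≤ A from fun g hg => hg.1),
        ← AddSubgroup.index_mul_card ((fixA σ A).addSubgroupOf W),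
        Nat.card_congr (AddSubgroup.addSubgroupOfEquivOfLe hZW).toEquiv]
      calc (R.subgroupOf A).index * Nat.card R * Nat.card (fixA σ A)
          ≤ ((fixA σ A).addSubgroupOf W).index * Nat.card R * Nat.card (fixA σ A) := by gcongr
        _ = _ := by ring
    have h2 : Nat.card R * Nat.card W ≤ Nat.card R * Nat.card (fixA σ R) :=
      Nat.mul_le_mul_left _ (Nat.card_le_card_of_injective _ (AddSubgroup.inclusion_injective (replSpan_le _)))
    have h3 := hmax R (hQr _) fun g hg => hg.1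
    refine ⟨le_antisymm h3 (h1.trans h2), (AddSubgroup.eq_of_le_of_card_ge (replSpan_le _) ?_).symm⟩
    exact Nat.le_of_mul_le_mul_left (h3.trans h1) Nat.card_pos
  have hall : ∀ t : Finset U, Nat.card (repl σ A (t : Set U)) * Nat.card (fixA σ (repl σ A (t : Set U))) =
      Nat.card A * Nat.card (fixA σ A) ∧ fixA σ (repl σ A (t : Set U)) = replSpan σ A (t : Set U) := by
    intro t
    induction t using Finset.induction_on with
    | empty =>
      have e : repl σ A ((∅ : Finset U) : Set U) = A := le_antisymm (fun g hg => hg.1) fun g hg =>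
        ⟨hg, fun u hu => absurd hu (by simp)⟩
      rw [e]
      refine ⟨rfl, le_antisymm le_sup_right (sup_le ((AddSubgroup.closure_le _).2 ?_) le_rfl)⟩
      rintro _ ⟨u, hu, -⟩
      simp at hu
    | insert a t _ ih =>
      rw [Finset.coe_insert, Set.insert_eq]
      obtain ⟨e1, c1⟩ := hone a
      obtain ⟨e2, c2⟩ := ih
      rw [repl_union, replSpan_union]
      set R1 := repl σ A ({a} : Set U)
      set R2 := repl σ A (t : Set U)
      set F1 := fixA σ R1
      set F2 := fixA σ R2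
      have hle : F1 ⊔ F2 ≤ fixA σ (R1 ⊓ R2) := sup_le (fixA_mono inf_le_left) (fixA_mono inf_le_right)
      set m := Nat.card A * Nat.card (fixA σ A) with hm
      have h5 : m * m ≤ (Nat.card (R1 ⊓ R2 : Subgroup Γ) * Nat.card (F1 ⊔ F2 : AddSubgroup U)) * m := by
        calc m * m = Nat.card R1 * Nat.card F1 * (Nat.card R2 * Nat.card F2) := by rw [e1, e2]
          _ = (Nat.card R1 * Nat.card R2) * (Nat.card F1 * Nat.card F2) := by ring
          _ ≤ (Nat.card (R1 ⊔ R2 : Subgroup Γ) * Nat.card (R1 ⊓ R2 : Subgroup Γ)) *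
              (Nat.card (F1 ⊔ F2 : AddSubgroup U) * Nat.card (F1 ⊓ F2 : AddSubgroup U)) :=
            Nat.mul_le_mul (CfsgLib.Fusion.card_mul_le_sup_inf R1 R2) (card_sup_mul_inf' F1 F2).ge
          _ = (Nat.card (R1 ⊓ R2 : Subgroup Γ) * Nat.card (F1 ⊔ F2 : AddSubgroup U)) *
              (Nat.card (R1 ⊔ R2 : Subgroup Γ) * Nat.card (fixA σ (R1 ⊔ R2))) := by rw [fixA_sup]; ring
          _ ≤ _ := Nat.mul_le_mul_left _ (hmax _ ((hQr _).trans le_sup_left)
              (sup_le (fun g hg => hg.1) fun g hg => hg.1))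
      have h6 : m ≤ Nat.card (R1 ⊓ R2 : Subgroup Γ) * Nat.card (F1 ⊔ F2 : AddSubgroup U) :=
        Nat.le_of_mul_le_mul_right h5 (Nat.mul_pos Nat.card_pos Nat.card_pos)
      have h7 := Nat.mul_le_mul_left (Nat.card (R1 ⊓ R2 : Subgroup Γ))
        (Nat.card_le_card_of_injective _ (AddSubgroup.inclusion_injective hle))
      have h8 := hmax (R1 ⊓ R2) (le_inf (hQr _) (hQr _)) (inf_le_left.trans fun g hg => hg.1)
      refine ⟨le_antisymm h8 (h6.trans h7), ?_⟩
      rw [← c1, ← c2]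
      exact (AddSubgroup.eq_of_le_of_card_ge hle (Nat.le_of_mul_le_mul_left (h8.trans h6) Nat.card_pos)).symm
  have h := hall (Set.toFinite s).toFinset
  rwa [Set.Finite.coe_toFinset] at h

/-- A group of exponent `p` does not absorb the module. -/
theorem replSpan_univ_ne_top [Finite U] [hpf : Fact p.Prime] (hp : ∀ u : U, p • u = 0)
    (hc : ∀ a ∈ A, ∀ b ∈ A, a * b = b * a) (hpow : ∀ a ∈ A, a ^ p = 1) {c : Γ} (hcA : c ∈ A)
    (hc1 : σ c ≠ 1) : replSpan σ A Set.univ ≠ ⊤ := by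
  intro htop
  have hne : fixA σ A ≠ ⊤ := fun e => hc1 (AddMonoidHom.ext fun u => (e.ge (AddSubgroup.mem_top u)) c hcA)
  obtain ⟨S, hS⟩ := (Set.toFinite {S : AddSubgroup U | (∀ a ∈ A, ∀ u ∈ S, σ a u ∈ S) ∧
    fixA σ A ≤ S ∧ S ≠ ⊤}).exists_maximal ⟨fixA σ A, fun a ha u hu => by rwa [hu a ha], le_rfl, hne⟩
  obtain ⟨⟨hSinv, hfS, hSne⟩, hSmax⟩ := hS
  refine hSne (top_le_iff.1 (htop.ge.trans (sup_le ((AddSubgroup.closure_le _).2 ?_) hfS)))
  rintro _ ⟨u, -, a, ha, rfl⟩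
  by_contra hout
  let D : AddMonoid.End U := σ a - 1
  have hDS : ∀ v ∈ S, D v ∈ S := fun v hv => sub_mem (hSinv a ha v hv) hv
  let T : AddSubgroup U := S ⊔ (D : U →+ U).range
  have hT : T = ⊤ := by
    by_contra hTne
    refine hout ((hSmax ⟨?_, hfS.trans le_sup_left, hTne⟩ le_sup_left) (AddSubgroup.mem_sup_right ⟨u, rfl⟩))
    intro e he w hw
    obtain ⟨w1, hw1, _, ⟨v, rfl⟩, rfl⟩ := AddSubgroup.mem_sup.1 hw
    rw [map_add]
    refine add_mem (AddSubgroup.mem_sup_left (hSinv e he w1 hw1)) (AddSubgroup.mem_sup_right ⟨σ e v, ?_⟩)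
    show σ a (σ e v) - σ e v = σ e (σ a v - v)
    rw [map_sub, ← apply_mul, ← apply_mul, hc a ha e he]
  have hiter : ∀ n, ∀ w : U, ∃ s ∈ S, ∃ v, w = s + (D ^ n) v := by
    intro n
    induction n with
    | zero => exact fun w => ⟨0, zero_mem S, w, by rw [zero_add, pow_zero]; rfl⟩
    | succ n ih =>
      intro w
      obtain ⟨s, hs, v, rfl⟩ := ih w
      obtain ⟨s', hs', _, ⟨v', rfl⟩, rfl⟩ := AddSubgroup.mem_sup.1 (hT.ge (AddSubgroup.mem_top v))
      refine ⟨s + (D ^ n) s', add_mem hs ?_, v', ?_⟩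
      · clear hs ih
        induction n generalizing s' with
        | zero => exact hs'
        | succ n ih =>
          rw [pow_succ, AddMonoid.End.coe_mul, Function.comp_apply]
          exact ih _ (hDS _ hs')
      · rw [map_add, pow_succ, AddMonoid.End.coe_mul, Function.comp_apply, add_assoc]
        rfl
  obtain ⟨s, hs, v, he⟩ := hiter p u
  have h0 : (σ a - 1) ^ p = 0 := sub_one_pow_eq_zero hp (by rw [← map_pow, hpow a ha, map_one])
  refine hout (show σ a u - u ∈ S from ?_)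
  have hu : u ∈ S := by
    have : (D ^ p) v = 0 := by
      show ((σ a - 1) ^ p) v = 0
      rw [h0]; rfl
    rw [he, this, add_zero]; exact hs
  exact hDS u hu

/-- A best offender normalizes `K`. -/
theorem best_offender_false [Finite Γ] [Fact p.Prime] [Finite U] (hw : Wr A B K p) (hp : ∀ u : U, p • u = 0)
    {Q : Subgroup Γ} (hQB : Q ≤ B) (hQc : ∀ q ∈ Q, ∀ k ∈ K, q * k = k * q)
    (hQdef : ∀ b ∈ B, (∀ k ∈ K, b * k = k * b) → b ∈ Q) (hQ1 : ∀ q ∈ Q, σ q = 1)
    (hsimple : ∀ L : Subgroup Γ, L ≤ K → (∀ k ∈ K, ∀ l ∈ L, k * l * k⁻¹ ∈ L) → L ≠ K →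
      ∀ l ∈ L, ∀ k ∈ K, l * k = k * l)
    (hK : ∃ k ∈ K, σ k ≠ 1) (hBA : ¬ A ≤ B)
    (hmax : ∀ H : Subgroup Γ, Q ≤ H → H ≤ A →
      Nat.card H * Nat.card (fixA σ H) ≤ Nat.card A * Nat.card (fixA σ A)) : False := by
  have hQA : Q ≤ A := hQB.trans hw.le
  have hcrit : ∀ b ∈ B, ∀ L : Subgroup Γ, L ≤ K → (∀ k ∈ K, ∀ l ∈ L, k * l * k⁻¹ ∈ L) → L ≠ K →
      (∀ x ∈ K, b * x * b⁻¹ * x⁻¹ ∈ L) → b ∈ Q := by
    intro b hb L hLK hLn hLne hLb
    have hcen := hsimple L hLK hLn hLne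
    refine hQdef b hb fun k hk => ?_
    let ψ : K →* Γ :=
      { toFun := fun x => b * x * b⁻¹ * (x : Γ)⁻¹
        map_one' := by simp
        map_mul' := fun x y => by
          have h := hcen _ (hLb y y.2) x x.2
          calc b * ((x * y : K) : Γ) * b⁻¹ * ((x * y : K) : Γ)⁻¹
              = (b * x * b⁻¹ * (x : Γ)⁻¹) * ((x : Γ) * (b * y * b⁻¹ * (y : Γ)⁻¹)) * (x : Γ)⁻¹ := by
                rw [MulMemClass.coe_mul]; group
            _ = (b * x * b⁻¹ * (x : Γ)⁻¹) * (b * y * b⁻¹ * (y : Γ)⁻¹) := by rw [← h]; group }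
    have htop : ⁅(⊤ : Subgroup K), (⊤ : Subgroup K)⁆ = ⊤ := by
      apply Subgroup.map_injective K.subtype_injective
      rw [Subgroup.map_commutator, ← MonoidHom.range_eq_map, range_subtype, hw.perfect]
    have h1 := map_eq_one_of_comm ψ htop (fun x _ y _ => ?_) ⟨k, hk⟩ (mem_top _)
    · have h2 : b * k * b⁻¹ * k⁻¹ = 1 := h1
      calc b * k = b * k * b⁻¹ * k⁻¹ * (k * b) := by group
        _ = k * b := by rw [h2, one_mul]
    · exact hcen _ (hLb x x.2) _ (hLK (hLb y y.2))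
  have hkerA : ∀ c ∈ A, σ c = 1 → c ∈ Q := by
    intro c hc hc1
    have hci : σ c⁻¹ = 1 := by
      have := map_mul σ c⁻¹ c
      rw [inv_mul_cancel, map_one, hc1, mul_one] at this
      exact this.symm
    obtain ⟨k, hk, hk1⟩ := hK
    by_cases hcB : c ∈ B
    · refine hcrit c hcB (K ⊓ kerM σ) inf_le_left ?_ (fun h => hk1 (h.ge hk).2) fun x hx => ?_
      · rintro k hk l ⟨hl, hl1⟩
        refine Subgroup.mem_inf.2 ⟨mul_mem (mul_mem hk hl) (inv_mem hk), mem_kerM.2 ?_⟩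
        rw [map_mul, map_mul, mem_kerM.1 hl1, mul_one, ← map_mul, mul_inv_cancel, map_one]
      · refine Subgroup.mem_inf.2 ⟨mul_mem (hw.norm c hcB x hx) (inv_mem hx), mem_kerM.2 ?_⟩
        rw [map_mul, map_mul, map_mul, hc1, hci, one_mul, mul_one, ← map_mul, mul_inv_cancel, map_one]
    · refine absurd (map_eq_one_of_comm σ hw.perfect (fun x hx y hy => ?_) k hk) hk1
      have e : σ (c * x * c⁻¹) = σ x := by rw [map_mul, map_mul, hc1, hci, one_mul, mul_one]
      rw [← e, ← map_mul, ← map_mul, (hw.comm c hc hcB x hx y hy).eq]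
  obtain ⟨hQs, hs1, hs2⟩ := repl_eq hw.comm_A hQA hQ1 hmax Set.univ
  set As := repl σ A Set.univ with hAs
  have hAsA : As ≤ A := fun g hg => hg.1
  have hAsQ : ¬ As ≤ Q := by
    intro h
    obtain ⟨c, hc, hcB⟩ := SetLike.not_le_iff_exists.1 hBA
    refine replSpan_univ_ne_top hp hw.comm_A hw.pow_p hc (fun e => hcB (hQB (hkerA c hc e))) ?_
    rw [← hs2]
    refine (AddSubgroup.eq_top_iff' _).2 fun u g hg => ?_
    rw [hQ1 g (h hg)]; rfl
  by_cases hreg : As ⊓ B ≤ Q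
  · refine regular_false (A := As) (K := K) (Q := Q) ?_ hp hQc hQ1 hK hAsQ ?_
    · exact
      { perfect := hw.perfect
        le := hQs
        comm_A := fun a ha b hb => hw.comm_A a (hAsA ha) b (hAsA hb)
        pow_p := fun a ha => hw.pow_p a (hAsA ha)
        norm := fun b hb k hk => hw.norm b (hQB hb) k hk
        comm := fun a ha haQ => hw.comm a (hAsA ha) fun h => haQ (hreg ⟨ha, h⟩) }
    · intro H h1 h2
      rw [hs1]
      exact hmax H h1 (h2.trans hAsA)
  obtain ⟨b, ⟨hbs, hbB⟩, hbQ⟩ := SetLike.not_le_iff_exists.1 hreg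
  refine hw.false_of_ident' hp ?_ hBA hK hQA hcrit ?_
  · intro a ha haB x hx
    let S : Subgroup Γ :=
      { carrier := {g | g * a = a * g ∧ ∀ u, σ g (σ a u - u) = σ a u - u}
        one_mem' := ⟨by rw [one_mul, mul_one], fun u => by rw [map_one]; rfl⟩
        mul_mem' := fun {g h} hg hh => ⟨by rw [mul_assoc, hh.1, ← mul_assoc, hg.1, mul_assoc],
          fun u => by rw [apply_mul, hh.2, hg.2]⟩
        inv_mem' := fun {g} hg => ⟨(Commute.inv_left (show Commute g a from hg.1)).eq,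
          fun u => by conv_lhs => rw [← hg.2 u, apply_inv_apply]⟩ }
    have hSb : b ∈ S := ⟨hw.comm_A b hbs.1 a ha, fun u => hbs.2 u (Set.mem_univ u) a ha⟩
    let L0 : Subgroup Γ := closure {g | ∃ y ∈ K, g = b * y * b⁻¹ * y⁻¹}
    have hL0K : L0 ≤ K := by
      refine (closure_le _).2 ?_
      rintro _ ⟨y, hy, rfl⟩
      exact mul_mem (hw.norm b hbB y hy) (inv_mem hy)
    have hL0n : ∀ k ∈ K, ∀ l ∈ L0, k * l * k⁻¹ ∈ L0 := by
      intro k hk l hl
      induction hl using closure_induction with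
      | mem g hg =>
        obtain ⟨y, hy, rfl⟩ := hg
        rw [show k * (b * y * b⁻¹ * y⁻¹) * k⁻¹ = (b * k * b⁻¹ * k⁻¹)⁻¹ * (b * (k * y) * b⁻¹ * (k * y)⁻¹) by
          group]
        exact mul_mem (inv_mem (subset_closure ⟨k, hk, rfl⟩)) (subset_closure ⟨_, mul_mem hk hy, rfl⟩)
      | one => rw [mul_one, mul_inv_cancel]; exact one_mem _
      | mul g h _ _ hg hh => rw [show k * (g * h) * k⁻¹ = k * g * k⁻¹ * (k * h * k⁻¹) by group]; exact mul_mem hg hh
      | inv g _ hg => rw [show k * g⁻¹ * k⁻¹ = (k * g * k⁻¹)⁻¹ by group]; exact inv_mem hg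
    have hL0 : L0 = K := by
      by_contra hne
      exact hbQ (hcrit b hbB L0 hL0K hL0n hne fun y hy => subset_closure ⟨y, hy, rfl⟩)
    have hmemS : x ∈ (S.comap (hw.diag ha haB)).map K.subtype := by
      refine (show L0 ≤ _ from (closure_le _).2 ?_) (hL0.ge hx)
      rintro _ ⟨y, hy, rfl⟩
      refine ⟨⟨b * y * b⁻¹ * y⁻¹, mul_mem (hw.norm b hbB y hy) (inv_mem hy)⟩, ?_, rfl⟩
      show (hw.diag ha haB) (⟨b * y * b⁻¹, hw.norm b hbB y hy⟩ * (⟨y, hy⟩ : K)⁻¹) ∈ S
      rw [map_mul, map_inv]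
      show (b * y * b⁻¹ * a) ^ p * ((y * a) ^ p)⁻¹ ∈ S
      rw [← prodTo_eq a (b * y * b⁻¹) (hw.pow_p a ha), ← conjBy_prodTo (hw.comm_A b hbs.1 a ha) p,
        prodTo_eq a y (hw.pow_p a ha)]
      set d := (y * a) ^ p with hd
      rw [show b * d * b⁻¹ * d⁻¹ = b * (d * b⁻¹ * d⁻¹) by group]
      refine mul_mem hSb ?_
      have hda : Commute a d := hw.diag_commute_a ha haB hy
      have hb' := inv_mem hSb
      refine ⟨?_, fun u => ?_⟩
      · exact ((hda.symm.mul_left (show Commute b⁻¹ a from hb'.1)).mul_left hda.symm.inv_left).eq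
      · have h1 : σ d⁻¹ (σ a u - u) = σ a (σ d⁻¹ u) - σ d⁻¹ u := by
          rw [map_sub, ← apply_mul, ← hda.inv_right.eq, apply_mul]
        rw [apply_mul, apply_mul, h1, hb'.2, ← h1, apply_apply_inv]
    obtain ⟨⟨x', hx'K⟩, hx', rfl⟩ := hmemS
    refine AddMonoidHom.ext fun u => ?_
    show σ ((x' * a) ^ p) (σ a u - u) - (σ a u - u) = 0
    rw [(show (x' * a) ^ p ∈ S from hx').2, sub_self]
  · have h := hmax Q le_rfl hQA
    have hfixQ : fixA σ Q = ⊤ := by
      refine (AddSubgroup.eq_top_iff' _).2 fun u q hq => ?_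
      rw [hQ1 q hq]; rfl
    rwa [hfixQ, AddSubgroup.card_top, mul_comm] at h

end CfsgLib.OffComp
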