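import Cfsg.Agent.Lib.OffComp.Basic
import Mathlib.Algebra.Ring.MinimalAxioms
import Mathlib.Tactic.NoncommRing
import Mathlib.FieldTheory.Finite.Basic
import Mathlib.GroupTheory.SpecificGroups.Cyclic.Basic

/-!
# Rings spanned by a perfect group on which `u + σ u` is central

For such a finite ring in characteristic two, an elementary abelian group of automorphisms commuting
with the involution `σ` fixes few `σ`-fixed points: the ring behaves like quaternions over its centre.
-/

set_option autoImplicit false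
set_option linter.style.haveILetI false

open Subgroup
open scoped commutatorElement

namespace CfsgLib.OffComp

universe u v

/-- The data: a perfect group spanning a ring, an involutory antiautomorphism inverting it, and a
group of automorphisms commuting with it. -/
structure Quad {R : Type v} [Ring R] {K : Type u} [Group K] (σ : R →+ R) (B : Subgroup (R ≃+* R))
    (π : K →* R) : Prop where
  two : ∀ u : R, u + u = 0
  inv : ∀ u, σ (σ u) = u
  anti : ∀ u w, σ (u * w) = σ w * σ u
  central : ∀ u w, (u + σ u) * w = w * (u + σ u)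
  map_inv : ∀ x, σ (π x) = π x⁻¹
  perfect : ⁅(⊤ : Subgroup K), (⊤ : Subgroup K)⁆ = ⊤
  span : AddSubgroup.closure (Set.range π) = ⊤
  nontriv : ∃ x, π x ≠ 1
  comm : ∀ b ∈ B, ∀ c ∈ B, ∀ u, b (c u) = c (b u)
  sq : ∀ b ∈ B, ∀ u, b (b u) = u
  map_comm : ∀ b ∈ B, ∀ u, b (σ u) = σ (b u)
  irr : ∀ I : AddSubgroup R, (∀ u ∈ I, ∀ w, w * u ∈ I ∧ u * w ∈ I) → (∀ u ∈ I, σ u ∈ I) →
    (∀ b ∈ B, ∀ u ∈ I, b u ∈ I) → I = ⊥ ∨ I = ⊤

variable {R : Type v} [Ring R] {K : Type u} [Group K] {σ : R →+ R} {B : Subgroup (R ≃+* R)}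
  {π : K →* R}

namespace Quad

theorem map_one' (h : Quad σ B π) : σ 1 = 1 := by
  have h1 := h.map_inv 1
  rwa [inv_one, map_one] at h1

theorem neg_eq (h : Quad σ B π) (u : R) : -u = u := neg_eq_of_add_eq_zero_left (h.two u)

theorem add_cancel' (h : Quad σ B π) (u w : R) : u + (u + w) = w := by
  rw [← add_assoc, h.two, zero_add]

theorem sigma_eq (h : Quad σ B π) (u : R) : σ u = u + (u + σ u) := (h.add_cancel' u (σ u)).symm

/-- The central elements fixed by `σ`. -/
def Base (σ : R →+ R) (z : R) : Prop := σ z = z ∧ ∀ w, z * w = w * z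

theorem base_tau (h : Quad σ B π) (u : R) : Base σ (u + σ u) :=
  ⟨by rw [map_add, h.inv, add_comm], h.central u⟩

theorem base_one (h : Quad σ B π) : Base σ (1 : R) := ⟨h.map_one', fun w => by rw [one_mul, mul_one]⟩

theorem base_add (_h : Quad σ B π) {z w : R} (hz : Base σ z) (hw : Base σ w) : Base σ (z + w) :=
  ⟨by rw [map_add, hz.1, hw.1], fun v => by rw [add_mul, mul_add, hz.2, hw.2]⟩

theorem base_mul (h : Quad σ B π) {z w : R} (hz : Base σ z) (hw : Base σ w) : Base σ (z * w) :=
  ⟨by rw [h.anti, hz.1, hw.1, hz.2], fun v => by rw [mul_assoc, hw.2, ← mul_assoc, hz.2, mul_assoc]⟩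

theorem base_pow (h : Quad σ B π) {z : R} (hz : Base σ z) (n : ℕ) : Base σ (z ^ n) := by
  induction n with
  | zero => rw [pow_zero]; exact h.base_one
  | succ n ih => rw [pow_succ]; exact h.base_mul ih hz

theorem base_map (h : Quad σ B π) {b : R ≃+* R} (hb : b ∈ B) {z : R} (hz : Base σ z) : Base σ (b z) :=
  ⟨by rw [← h.map_comm b hb, hz.1], fun v => by
    obtain ⟨v, rfl⟩ := b.surjective v
    rw [← map_mul, hz.2, map_mul]⟩

theorem tau_base_mul (h : Quad σ B π) {z : R} (hz : Base σ z) (u : R) :
    z * u + σ (z * u) = z * (u + σ u) := by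
  rw [h.anti, hz.1, mul_add, hz.2 (σ u)]

theorem tau_mul_comm (h : Quad σ B π) (u w : R) : u * w + σ (u * w) = w * u + σ (w * u) := by
  set t := u + σ u with ht
  set s := w + σ w with hs
  have e : u * w + σ (u * w) + (w * u + σ (w * u)) = 0 := by
    rw [h.anti, h.anti, h.sigma_eq u, h.sigma_eq w, ← ht, ← hs]
    have c1 : t * w = w * t := h.central u w
    have c2 : s * u = u * s := h.central w u
    have c3 : t * s = s * t := h.central u s
    simp only [mul_add, add_mul, c1, c2, c3]
    calc u * w + (w * u + u * s + (w * t + s * t)) + (w * u + (u * w + w * t + (u * s + s * t)))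
        = (u * w + u * w) + (w * u + w * u) + (u * s + u * s) + (w * t + w * t) + (s * t + s * t) := by
          abel
      _ = 0 := by simp only [h.two, add_zero]
  rw [eq_neg_of_add_eq_zero_left e, h.neg_eq]

theorem sigma_mul_self (h : Quad σ B π) (u : R) : σ u * u = u * σ u := by
  rw [h.sigma_eq u, add_mul, mul_add, h.central]

theorem base_norm (h : Quad σ B π) (u : R) : Base σ (u * σ u) := by
  have hu : u ∈ AddSubgroup.closure (Set.range π) := h.span ▸ AddSubgroup.mem_top u
  induction hu using AddSubgroup.closure_induction with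
  | mem x hx =>
    obtain ⟨x, rfl⟩ := hx
    rw [h.map_inv, ← map_mul, mul_inv_cancel, map_one]
    exact h.base_one
  | zero =>
    rw [zero_mul]
    exact ⟨map_zero σ, fun w => by rw [zero_mul, mul_zero]⟩
  | add x y _ _ hx hy =>
    have e : (x + y) * σ (x + y) = (x * σ x + y * σ y) + (x * σ y + σ (x * σ y)) := by
      rw [h.anti x (σ y), h.inv, map_add]; simp only [mul_add, add_mul]; abel
    rw [e]
    exact h.base_add (h.base_add hx hy) (h.base_tau _)
  | neg x _ hx => rwa [h.neg_eq]

theorem exists_tau_ne_zero (h : Quad σ B π) : ∃ u : R, u + σ u ≠ 0 := by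
  by_contra hne
  push Not at hne
  obtain ⟨x, hx⟩ := h.nontriv
  refine hx (map_eq_one_of_comm π (K := ⊤) h.perfect (fun a _ b _ => ?_) x (Subgroup.mem_top x))
  have hid : ∀ u : R, σ u = u := fun u => by rw [h.sigma_eq u, hne, add_zero]
  calc π a * π b = σ (π a * π b) := (hid _).symm
    _ = π b * π a := by rw [h.anti, hid, hid]

/-- The trace form is nondegenerate. -/
theorem nondeg (h : Quad σ B π) {u : R} (hu : ∀ w, u * w + σ (u * w) = 0) : u = 0 := by
  let I : AddSubgroup R :=
    { carrier := {u | ∀ w, u * w + σ (u * w) = 0}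
      zero_mem' := fun w => by rw [zero_mul, map_zero, add_zero]
      add_mem' := fun {a b} ha hb w => by
        rw [add_mul, map_add, add_add_add_comm, ha w, hb w, add_zero]
      neg_mem' := fun {a} ha w => by rw [h.neg_eq]; exact ha w }
  have h1 : ∀ a ∈ I, ∀ w, w * a ∈ I ∧ a * w ∈ I := fun a ha w =>
    ⟨fun v => by rw [mul_assoc, h.tau_mul_comm, mul_assoc]; exact ha _,
      fun v => by rw [mul_assoc]; exact ha _⟩
  have h2 : ∀ a ∈ I, σ a ∈ I := fun a ha w => by
    have e : σ a * w = σ (σ w * a) := by rw [h.anti, h.inv]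
    rw [e, h.inv, add_comm, h.tau_mul_comm]
    exact ha _
  have h3 : ∀ b ∈ B, ∀ a ∈ I, b a ∈ I := fun b hb a ha w => by
    obtain ⟨w, rfl⟩ := b.surjective w
    rw [← map_mul, ← h.map_comm b hb, ← map_add, ha w, map_zero]
  rcases h.irr I h1 h2 h3 with e | e
  · exact AddSubgroup.mem_bot.1 (e ▸ (hu : u ∈ I))
  · obtain ⟨v, hv⟩ := h.exists_tau_ne_zero
    exact absurd (by simpa using (e ▸ AddSubgroup.mem_top (1 : R) : (1 : R) ∈ I) v) hv

theorem reduced (h : Quad σ B π) [Finite R] {z : R} (hz : Base σ z) (hzz : z * z = 0) : z = 0 := by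
  classical
  by_contra hne
  let M : Set R := {m | Base σ m ∧ m * m = 0}
  obtain ⟨q, ⟨hqM, hq0⟩, hqmin⟩ := (Set.toFinite {q | q ∈ M ∧ q ≠ 0}).exists_minimalFor
    (fun q => Nat.card ((fun m => q * m) '' M)) _ ⟨z, ⟨hz, hzz⟩, hne⟩
  have hann : ∀ m ∈ M, q * m = 0 := by
    intro m hm
    by_contra hqm
    have hqmM : q * m ∈ M := ⟨h.base_mul hqM.1 hm.1, by
      rw [mul_assoc, ← mul_assoc m, ← hqM.1.2, mul_assoc q m, hm.2, mul_zero, mul_zero]⟩
    have hsub : (fun w => q * m * w) '' M = (fun v => m * v) '' ((fun w => q * w) '' M) := by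
      rw [Set.image_image]
      refine Set.image_congr fun w _ => ?_
      rw [hqM.1.2 m, mul_assoc]
    have hlt : Nat.card ((fun w => q * m * w) '' M) < Nat.card ((fun w => q * w) '' M) := by
      rw [hsub, Nat.card_coe_set_eq, Nat.card_coe_set_eq]
      refine lt_of_le_of_ne (Set.ncard_image_le (Set.toFinite _)) fun e => ?_
      have hinj := Set.injOn_of_ncard_image_eq e (Set.toFinite _)
      refine hqm (hinj ⟨m, hm, rfl⟩ ⟨0, ⟨⟨map_zero σ, fun w => by rw [zero_mul, mul_zero]⟩,
        mul_zero 0⟩, mul_zero q⟩ ?_)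
      show m * (q * m) = m * 0
      rw [← mul_assoc, ← hqM.1.2, mul_assoc, hm.2, mul_zero, mul_zero]
    exact absurd (hqmin ⟨hqmM, hqm⟩ hlt.le) hlt.not_ge
  let I : AddSubgroup R :=
    { carrier := {u | ∀ m ∈ M, m * u = 0}
      zero_mem' := fun m _ => mul_zero m
      add_mem' := fun {a b} ha hb m hm => by rw [mul_add, ha m hm, hb m hm, add_zero]
      neg_mem' := fun {a} ha m hm => by rw [mul_neg, ha m hm, neg_zero] }
  rcases h.irr I (fun a ha w => ⟨fun m hm => by rw [← mul_assoc, hm.1.2, mul_assoc, ha m hm, mul_zero],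
      fun m hm => by rw [← mul_assoc, ha m hm, zero_mul]⟩)
    (fun a ha m hm => by
      have := congrArg σ (ha m hm)
      rwa [h.anti, map_zero, hm.1.1, ← hm.1.2] at this)
    (fun b hb a ha m hm => by
      have hbm : b m ∈ M := ⟨h.base_map hb hm.1, by rw [← map_mul, hm.2, map_zero]⟩
      have := congrArg b (ha _ hbm)
      rwa [map_mul, h.sq b hb, map_zero] at this) with e | e
  · exact hq0 (AddSubgroup.mem_bot.1 (e ▸ (show q ∈ I from fun m hm => by rw [hm.1.2]; exact hann m hm)))
  · have h1 := (e ▸ AddSubgroup.mem_top (1 : R) : (1 : R) ∈ I) z ⟨hz, hzz⟩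
    exact hne (by rwa [mul_one] at h1)

theorem pow_ne_zero' (h : Quad σ B π) [Finite R] {z : R} (hz : Base σ z) (hne : z ≠ 0) (n : ℕ) :
    z ^ n ≠ 0 := by
  induction n using Nat.strong_induction_on with
  | _ n ih =>
    intro e
    rcases Nat.lt_or_ge n 2 with hn | hn
    · interval_cases n
      · rw [pow_zero] at e; exact hne (by rw [← mul_one z, e, mul_zero])
      · rw [pow_one] at e; exact hne e
    · refine ih ((n + 1) / 2) (by omega) (h.reduced (h.base_pow hz _) ?_)
      rw [← pow_add, show (n + 1) / 2 + (n + 1) / 2 = n + ((n + 1) / 2 + (n + 1) / 2 - n) by omega,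
        pow_add, e, zero_mul]

end Quad

/-- Some positive power of an element of a finite monoid is idempotent. -/
theorem exists_pow_idem {M : Type*} [Monoid M] [Finite M] (z : M) :
    ∃ n, 0 < n ∧ z ^ n * z ^ n = z ^ n := by
  obtain ⟨i, j, hne, hij⟩ := Finite.exists_ne_map_eq_of_infinite fun n : ℕ => z ^ n
  wlog hlt : i < j generalizing i j
  · exact this j i hne.symm hij.symm (by omega)
  set d := j - i with hd
  have hper : ∀ m, i ≤ m → ∀ k, z ^ (m + k * d) = z ^ m := by
    intro m hm k
    induction k with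
    | zero => rw [zero_mul, add_zero]
    | succ k ih =>
      rw [show m + (k + 1) * d = j + (m - i + k * d) by rw [Nat.succ_mul]; omega, pow_add,
        ← show z ^ i = z ^ j from hij, ← pow_add,
        show i + (m - i + k * d) = m + k * d by omega, ih]
  refine ⟨(i + 1) * d, Nat.mul_pos (by omega) (by omega), ?_⟩
  rw [← pow_add, hper _ (le_trans (by omega) (Nat.le_mul_of_pos_right _ (by omega)))]

namespace Quad

/-- A minimal idempotent of the base: its corner is a field. -/
structure Corner (σ : R →+ R) (e : R) : Prop where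
  base : Quad.Base σ e
  idem : e * e = e
  ne : e ≠ 0
  inv : ∀ z, Quad.Base σ z → e * z ≠ 0 → ∃ w, Quad.Base σ w ∧ e * w = w ∧ e * z * w = e

theorem exists_corner (h : Quad σ B π) [Finite R] : ∃ e : R, Corner σ e := by
  have hone : (1 : R) ≠ 0 := fun e => by
    obtain ⟨u, hu⟩ := h.exists_tau_ne_zero
    exact hu (by rw [← mul_one (u + σ u), e, mul_zero])
  obtain ⟨e, ⟨heB, hee, hene⟩, hmin⟩ := (Set.toFinite {e : R | Base σ e ∧ e * e = e ∧ e ≠ 0}).exists_minimalFor
    (fun e => Nat.card ((fun w => e * w) '' {w | Base σ w})) _ ⟨1, h.base_one, one_mul 1, hone⟩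
  refine ⟨e, heB, hee, hene, fun z hz hez => ?_⟩
  have hezB : Base σ (e * z) := h.base_mul heB hz
  obtain ⟨n, hn, hid⟩ := exists_pow_idem (e * z)
  obtain ⟨n, rfl⟩ := Nat.exists_eq_succ_of_ne_zero hn.ne'
  set f := (e * z) ^ (n + 1) with hf
  have hfB : Base σ f := h.base_pow hezB _
  have hef : e * f = f := by rw [hf, pow_succ', ← mul_assoc, ← mul_assoc, hee]
  have hfe : f = e := by
    by_contra hne
    have hlt : Nat.card ((fun w => f * w) '' {w | Base σ w}) <
        Nat.card ((fun w => e * w) '' {w | Base σ w}) := by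
      refine Set.Finite.card_lt_card (Set.toFinite _) ⟨?_, fun hsub => ?_⟩
      · rintro _ ⟨w, hw, rfl⟩
        exact ⟨f * w, h.base_mul hfB hw, by show e * (f * w) = f * w; rw [← mul_assoc, hef]⟩
      · obtain ⟨w, -, hw⟩ := hsub ⟨1, h.base_one, mul_one e⟩
        have h1 : f * w = e := hw
        refine hne ?_
        calc f = e * f := hef.symm
          _ = f * e := heB.2 f
          _ = f * (f * w) := by rw [h1]
          _ = e := by rw [← mul_assoc, hid, h1]
    exact absurd (hmin ⟨hfB, hid, h.pow_ne_zero' hezB hez _⟩ hlt.le) hlt.not_ge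
  refine ⟨e * (e * z) ^ n, h.base_mul heB (h.base_pow hezB n), by rw [← mul_assoc, hee], ?_⟩
  rw [← mul_assoc, hezB.2 e |>.trans (by rw [← mul_assoc, hee]), ← pow_succ', ← hf, hfe]

/-- The field at a corner, as a set. -/
def cornerSet (σ : R →+ R) (e : R) : Set R := {z | Quad.Base σ z ∧ e * z = z}

/-- The module at a corner. -/
def cornerFix (σ : R →+ R) (e : R) : AddSubgroup R where
  carrier := {u | e * u = u ∧ σ u = u}
  zero_mem' := ⟨mul_zero e, map_zero σ⟩
  add_mem' := fun {a b} ha hb => ⟨by rw [mul_add, ha.1, hb.1], by rw [map_add, ha.2, hb.2]⟩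
  neg_mem' := fun {a} ha => ⟨by rw [mul_neg, ha.1], by rw [map_neg, ha.2]⟩

/-- The whole corner. -/
def cornerAll (e : R) : AddSubgroup R where
  carrier := {u | e * u = u}
  zero_mem' := mul_zero e
  add_mem' := fun {a b} (ha : e * a = a) (hb : e * b = b) => show e * (a + b) = a + b by
    rw [mul_add, ha, hb]
  neg_mem' := fun {a} (ha : e * a = a) => show e * -a = -a by rw [mul_neg, ha]

variable {e : R}

theorem sigma_mem (h : Quad σ B π) (hc : Corner σ e) {u : R} (hu : e * u = u) : e * σ u = σ u := by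
  conv_rhs => rw [← hu, h.anti, hc.base.1, ← hc.base.2]

theorem tau_mem (h : Quad σ B π) (hc : Corner σ e) {u : R} (hu : e * u = u) :
    u + σ u ∈ cornerSet σ e :=
  ⟨h.base_tau u, by rw [mul_add, hu, h.sigma_mem hc hu]⟩

theorem exists_inv (_h : Quad σ B π) (hc : Corner σ e) {z : R} (hz : z ∈ cornerSet σ e) (hne : z ≠ 0) :
    ∃ w ∈ cornerSet σ e, z * w = e := by
  obtain ⟨w, h1, h2, h3⟩ := hc.inv z hz.1 (by rwa [hz.2])
  exact ⟨w, ⟨h1, h2⟩, by rwa [hz.2] at h3⟩

theorem nondeg_corner (h : Quad σ B π) (hc : Corner σ e) {u : R} (hu : e * u = u)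
    (h0 : ∀ w, e * w = w → u * w + σ (u * w) = 0) : u = 0 := by
  refine h.nondeg fun w => ?_
  have := h0 (e * w) (by rw [← mul_assoc, hc.idem])
  rwa [← mul_assoc, ← hc.base.2, hu] at this

theorem exists_tau_eq (h : Quad σ B π) (hc : Corner σ e) : ∃ x, e * x = x ∧ x + σ x = e := by
  obtain ⟨w, hw⟩ : ∃ w, e * w + σ (e * w) ≠ 0 := by
    by_contra hne
    push Not at hne
    exact hc.ne (h.nondeg hne)
  have hew : e * (e * w) = e * w := by rw [← mul_assoc, hc.idem]
  obtain ⟨i, hi, hwi⟩ := h.exists_inv hc (h.tau_mem hc hew) hw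
  refine ⟨i * (e * w), by rw [← mul_assoc, hi.2], ?_⟩
  rw [h.tau_base_mul hi.1, hi.1.2, hwi]

theorem corner_orth (h : Quad σ B π) (hc : Corner σ e) :
    e * (1 + e) = 0 ∧ (1 + e) * e = 0 ∧ (1 + e) * (1 + e) = 1 + e := by
  have h1 : e * (1 + e) = 0 := by rw [mul_add, mul_one, hc.idem, h.two]
  exact ⟨h1, by rw [add_mul, one_mul, hc.idem, h.two], by rw [add_mul, one_mul, h1, add_zero]⟩

/-- The action of the group on the corner, as units of the whole ring. -/
def cornerHom (h : Quad σ B π) (hc : Corner σ e) : K →* R where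
  toFun y := e * π y + (1 + e)
  map_one' := by rw [map_one, mul_one, add_comm 1 e, h.add_cancel']
  map_mul' y y' := by
    obtain ⟨h1, h2, h3⟩ := h.corner_orth hc
    have h4 : e * π y * (1 + e) = 0 := by rw [hc.base.2 (π y), mul_assoc, h1, mul_zero]
    have h5 : (1 + e) * (e * π y') = 0 := by rw [← mul_assoc, h2, zero_mul]
    have h6 : e * π y * (e * π y') = e * π (y * y') := by
      rw [map_mul, ← mul_assoc, mul_assoc e (π y) e, ← hc.base.2 (π y), ← mul_assoc, hc.idem, mul_assoc]
    rw [add_mul (e * π y), mul_add (e * π y), mul_add (1 + e), h4, h5, h3, h6, add_zero, zero_add]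

theorem cornerHom_apply (h : Quad σ B π) (hc : Corner σ e) (y : K) :
    h.cornerHom hc y = e * π y + (1 + e) := rfl

/-- The corner contains two independent elements with trivial trace. -/
theorem exists_fix_not_mem (h : Quad σ B π) (hc : Corner σ e) :
    ∃ n ∈ cornerFix σ e, n ∉ cornerSet σ e := by
  by_contra hne
  push Not at hne
  obtain ⟨x, hex, hx⟩ := h.exists_tau_eq hc
  have hdec : ∀ u, e * u = u → ∃ z ∈ cornerSet σ e, u + (u + σ u) * x = z := by
    intro u hu
    refine ⟨_, hne _ ⟨by rw [mul_add, hu, ← mul_assoc, (h.tau_mem hc hu).2], ?_⟩, rfl⟩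
    have h1 : (u + σ u) * (x + σ x) = u + σ u := by
      rw [hx, ← hc.base.2, (h.tau_mem hc hu).2]
    have hts : σ x * (u + σ u) = (u + σ u) * σ x := (h.central u _).symm
    have h2 : u + (u + σ u) * x + (σ u + (u + σ u) * σ x) = 0 := by
      rw [add_add_add_comm, ← mul_add, h1, h.two]
    rw [map_add, h.anti, (h.base_tau u).1, hts,
      ← neg_eq_of_add_eq_zero_right h2, h.neg_eq]
  have hcomm : ∀ u w, e * u = u → e * w = w → u * w = w * u := by
    intro u w hu hw
    obtain ⟨a, ha, hua⟩ := hdec u hu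
    obtain ⟨b, hb, hwb⟩ := hdec w hw
    have eu : u = a + (u + σ u) * x := by rw [← hua, add_assoc, h.two, add_zero]
    have ew : w = b + (w + σ w) * x := by rw [← hwb, add_assoc, h.two, add_zero]
    generalize hs : u + σ u = s at eu
    generalize ht : w + σ w = t at ew
    have hS : ∀ v, s * v = v * s := fun v => hs ▸ h.central u v
    have hT : ∀ v, t * v = v * t := fun v => ht ▸ h.central w v
    have c1 : a * b = b * a := ha.1.2 b
    have c2 : a * (t * x) = t * x * a := ha.1.2 _
    have c3 : s * x * b = b * (s * x) := (hb.1.2 _).symm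
    have c4 : s * x * (t * x) = t * x * (s * x) := by
      calc s * x * (t * x) = s * (x * t) * x := by noncomm_ring
        _ = s * t * x * x := by rw [← hT x]; noncomm_ring
        _ = t * s * x * x := by rw [hS t]
        _ = t * (s * x) * x := by noncomm_ring
        _ = t * (x * s) * x := by rw [hS x]
        _ = t * x * (s * x) := by noncomm_ring
    rw [eu, ew]
    simp only [mul_add, add_mul]
    rw [c1, c2, c3, c4]
    abel
  -- then the group is killed on the corner
  set f := h.cornerHom hc with hfdef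
  have hf : ∀ y, f y = 1 := fun y => by
    refine map_eq_one_of_comm f (K := ⊤) h.perfect (fun a _ b _ => ?_) y (Subgroup.mem_top y)
    rw [hfdef, h.cornerHom_apply hc a, h.cornerHom_apply hc b]
    have hz : Base σ (1 + e) := h.base_add h.base_one hc.base
    have hz : Base σ (1 + e) := h.base_add h.base_one hc.base
    have hab : e * π a * (e * π b) = e * π b * (e * π a) :=
      hcomm _ _ (by rw [← mul_assoc, hc.idem]) (by rw [← mul_assoc, hc.idem])
    rw [add_mul (e * π a), mul_add (e * π a), add_mul (e * π b), mul_add (e * π b),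
      mul_add (1 + e) (e * π a), mul_add (1 + e) (e * π b), hab, hz.2 (e * π a), hz.2 (e * π b)]
    abel
  have hpi : ∀ y, e * π y = e := fun y => by
    have := hf y
    rw [hfdef, h.cornerHom_apply hc] at this
    calc e * π y = e * π y + (1 + e) + (1 + e) := by rw [add_assoc, h.two, add_zero]
      _ = e := by rw [this, ← add_assoc, h.two, zero_add]
  have hall : ∀ u, σ (e * u) = e * u := by
    intro u
    have hu : u ∈ AddSubgroup.closure (Set.range π) := h.span ▸ AddSubgroup.mem_top u
    induction hu using AddSubgroup.closure_induction with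
    | mem z hz => obtain ⟨y, rfl⟩ := hz; rw [hpi, hc.base.1]
    | zero => rw [mul_zero, map_zero]
    | add a b _ _ ha hb => rw [mul_add, map_add, ha, hb]
    | neg a _ ha => rwa [h.neg_eq]
  have h1 := hall x
  rw [hex] at h1
  rw [h1, h.two] at hx
  exact hc.ne hx.symm

theorem four_le_card (h : Quad σ B π) [Finite R] (hc : Corner σ e) :
    4 ≤ Nat.card (cornerSet σ e) := by
  classical
  rw [Nat.card_coe_set_eq]
  by_contra hlt
  have hev : 2 ∣ (cornerSet σ e).ncard := by
    let A : AddSubgroup R :=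
      { carrier := cornerSet σ e
        zero_mem' := ⟨⟨map_zero σ, fun w => by rw [zero_mul, mul_zero]⟩, mul_zero e⟩
        add_mem' := fun {a b} ha hb => ⟨h.base_add ha.1 hb.1, by rw [mul_add, ha.2, hb.2]⟩
        neg_mem' := fun {a} ha => by rw [h.neg_eq]; exact ha }
    have h1 : addOrderOf (⟨e, hc.base, hc.idem⟩ : A) = 2 := by
      refine addOrderOf_eq_prime ?_ ?_
      · rw [two_nsmul]; exact Subtype.ext (h.two e)
      · exact fun h' => hc.ne (congrArg Subtype.val h')
    have := addOrderOf_dvd_natCard (⟨e, hc.base, hc.idem⟩ : A)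
    rw [h1] at this
    rwa [← Nat.card_coe_set_eq]
  have h2 : (cornerSet σ e).ncard = 2 := by
    have : 0 < (cornerSet σ e).ncard := (Set.ncard_pos (Set.toFinite _)).2 ⟨e, hc.base, hc.idem⟩
    omega
  have hset : ∀ z ∈ cornerSet σ e, z = 0 ∨ z = e := by
    intro z hz
    by_contra hne
    push Not at hne
    have : ({0, e, z} : Set R).ncard ≤ 2 := h2 ▸ Set.ncard_le_ncard (by
      intro w hw
      rcases hw with rfl | rfl | rfl
      · exact ⟨⟨map_zero σ, fun w => by rw [zero_mul, mul_zero]⟩, mul_zero e⟩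
      · exact ⟨hc.base, hc.idem⟩
      · exact hz) (Set.toFinite _)
    rw [Set.ncard_insert_of_notMem (by simp [Ne.symm hc.ne, Ne.symm hne.1]) (Set.toFinite _),
      Set.ncard_pair (Ne.symm hne.2)] at this
    omega
  -- every element of the group has order dividing six on the corner
  set f := h.cornerHom hc with hfdef
  have h6 : ∀ y, f y ^ 6 = 1 := by
    intro y
    set u := e * π y with hu
    have heu : e * u = u := by rw [hu, ← mul_assoc, hc.idem]
    have hN : σ u * u = e := by
      rw [hu, h.anti, hc.base.1, mul_assoc, ← mul_assoc e e, hc.idem, h.map_inv, hc.base.2,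
        ← mul_assoc, ← map_mul, inv_mul_cancel, map_one, one_mul]
    have hsq : u * u = (u + σ u) * u + e := by
      rw [add_mul, hN, add_assoc, h.two, add_zero]
    have hpow : ∀ n, 0 < n → f y ^ n = u ^ n + (1 + e) := by
      intro n hn
      induction n with
      | zero => omega
      | succ n ih =>
        rcases Nat.eq_zero_or_pos n with rfl | hpos
        · rw [zero_add, pow_one, pow_one]; exact h.cornerHom_apply hc y
        · have h1 : u ^ n * (1 + e) = 0 := by
            obtain ⟨k, rfl⟩ := Nat.exists_eq_succ_of_ne_zero hpos.ne'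
            rw [pow_succ, mul_assoc, ← h.base_add h.base_one hc.base |>.2 u, add_mul, one_mul, heu,
              h.two, mul_zero]
          have h2 : (1 + e) * u = 0 := by rw [add_mul, one_mul, heu, h.two]
          have h3 : (1 + e) * (1 + e) = 1 + e := by
            rw [add_mul, one_mul, mul_add, mul_one, hc.idem, h.two, add_zero]
          rw [pow_succ, ih hpos, show f y = u + (1 + e) from h.cornerHom_apply hc y, add_mul (u ^ n),
            mul_add (u ^ n), mul_add (1 + e), h1, h2, h3, add_zero, zero_add, pow_succ]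
    have hu6 : u ^ 6 = e := by
      rcases hset _ (h.tau_mem hc heu) with h0 | h0
      · rw [h0, zero_mul, zero_add] at hsq
        rw [show u ^ 6 = u * u * (u * u) * (u * u) by simp only [pow_succ, pow_zero, one_mul, mul_assoc],
          hsq, hc.idem, hc.idem]
      · rw [h0, heu] at hsq
        have h3 : u * u * u = e := by
          rw [hsq, add_mul, heu, hsq, add_comm, h.add_cancel']
        rw [show u ^ 6 = u * u * u * (u * u * u) by simp only [pow_succ, pow_zero, one_mul, mul_assoc],
          h3, hc.idem]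
    rw [hpow 6 (by omega), hu6, add_comm 1 e, h.add_cancel']
  have hf := fun y => map_eq_one_of_pow_two f (K := ⊤) h.perfect (fun z _ => h6 z) y (Subgroup.mem_top y)
  obtain ⟨n, hn, hnB⟩ := h.exists_fix_not_mem hc
  refine hnB ?_
  have hpi : ∀ y, e * π y = e := fun y => by
    have := hf y
    rw [hfdef, h.cornerHom_apply hc] at this
    calc e * π y = e * π y + (1 + e) + (1 + e) := by rw [add_assoc, h.two, add_zero]
      _ = e := by rw [this, ← add_assoc, h.two, zero_add]
  have hall : ∀ u, e * u = 0 ∨ e * u = e := by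
    intro u
    have hu : u ∈ AddSubgroup.closure (Set.range π) := h.span ▸ AddSubgroup.mem_top u
    induction hu using AddSubgroup.closure_induction with
    | mem z hz => obtain ⟨y, rfl⟩ := hz; exact Or.inr (hpi y)
    | zero => exact Or.inl (mul_zero e)
    | add a b _ _ ha hb => rcases ha with ha | ha <;> rcases hb with hb | hb <;> simp [mul_add, ha, hb, h.two]
    | neg a _ ha => rwa [h.neg_eq]
  rcases hall n with h' | h' <;> rw [hn.1] at h' <;> rw [h']
  · exact ⟨⟨map_zero σ, fun w => by rw [zero_mul, mul_zero]⟩, mul_zero e⟩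
  · exact ⟨hc.base, hc.idem⟩

end Quad

end CfsgLib.OffComp
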