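import Cfsg.Agent.Lib.OffComp.Final

/-!
# The regular case
-/

set_option autoImplicit false
set_option linter.style.haveILetI false

open Subgroup
open scoped Pointwise
open scoped commutatorElement

namespace CfsgLib.OffComp

universe u v

variable {Γ : Type u} [Group Γ] {A B K : Subgroup Γ} {p : ℕ}

theorem Wr.commute_rest (hw : Wr A B K p) [hpf : Fact p.Prime] {a : Γ} (ha : a ∈ A) (haB : a ∉ B)
    {x y : Γ} (hx : x ∈ K) (hy : y ∈ K) : Commute y (x⁻¹ * (x * a) ^ p) := by
  have hall : ∀ n, n ≤ p → 1 ≤ n → Commute y (x⁻¹ * prodTo a n x) := by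
    intro n hn h1
    induction n with
    | zero => omega
    | succ n ih =>
      rw [prodTo_succ, ← mul_assoc]
      rcases Nat.eq_zero_or_pos n with rfl | hpos
      · simp [prodTo_zero]
      · refine (ih (by omega) hpos).mul_right ?_
        simpa using hw.comm_idx ha haB (i := 0) (j := n) hpf.out.pos (by omega) (by omega) hy hx
  rw [← prodTo_eq a x (hw.pow_p a ha)]
  exact hall p le_rfl hpf.out.one_lt.le

/-- Passing to a subgroup containing everything. -/
theorem Wr.subgroupOf (hw : Wr A B K p) {H : Subgroup Γ} (hA : A ≤ H) (hK : K ≤ H) :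
    Wr (A.subgroupOf H) (B.subgroupOf H) (K.subgroupOf H) p where
  perfect := by
    apply Subgroup.map_injective H.subtype_injective
    rw [Subgroup.map_commutator, subgroupOf_map_subtype, inf_eq_left.2 hK, hw.perfect]
  le := fun x hx => hw.le hx
  comm_A := fun a ha b hb => Subtype.ext (hw.comm_A a ha b hb)
  pow_p := fun a ha => Subtype.ext (hw.pow_p a ha)
  norm := fun b hb k hk => hw.norm b hb k hk
  comm := fun a ha haB k hk l hl => Subtype.ext (hw.comm a ha haB k hk l hl).eq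

theorem card_fixA_comp {U : Type v} [AddCommGroup U] (σ : Γ →* AddMonoid.End U) (H : Subgroup Γ)
    (L : Subgroup H) : fixA (σ.comp H.subtype) L = fixA σ (L.map H.subtype) := by
  ext u
  constructor
  · rintro hu _ ⟨g, hg, rfl⟩
    exact hu g hg
  · exact fun hu g hg => hu _ ⟨g, hg, rfl⟩

theorem card_subgroupOf {H A : Subgroup Γ} (h : A ≤ H) : Nat.card (A.subgroupOf H) = Nat.card A :=
  Nat.card_congr (subgroupOfEquivOfLe h).toEquiv

/-- An offender cannot satisfy the identity; no assumption on the ambient group. -/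
theorem Wr.false_of_ident' [Finite Γ] [Fact p.Prime] (hw : Wr A B K p) {U : Type v} [AddCommGroup U]
    [Finite U] (hp : ∀ u : U, p • u = 0) {σ : Γ →* AddMonoid.End U} (hid : Ident σ A B K p)
    (hBA : ¬ A ≤ B) (hK : ∃ k ∈ K, σ k ≠ 1) {Q : Subgroup Γ} (hQA : Q ≤ A)
    (hQ : ∀ b ∈ B, ∀ L : Subgroup Γ, L ≤ K → (∀ k ∈ K, ∀ l ∈ L, k * l * k⁻¹ ∈ L) → L ≠ K →
      (∀ x ∈ K, b * x * b⁻¹ * x⁻¹ ∈ L) → b ∈ Q)
    (hoff : Nat.card U * Nat.card Q ≤ Nat.card A * Nat.card (fixA σ A)) : False := by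
  set H := conjGen A K (fun _ => True) ⊔ A with hH
  have hA : A ≤ H := le_sup_right
  have hKH : K ≤ H := hw.le_conjGen.trans le_sup_left
  refine (hw.subgroupOf hA hKH).false_of_ident hp (σ := σ.comp H.subtype) ?_ ?_ ?_ ?_ (Q.subgroupOf H) ?_ ?_
  · intro a ha haB x hx
    exact hid (a : Γ) ha haB x hx
  · refine eq_top_iff.2 fun g _ => ?_
    have hle : H ≤ (conjGen (A.subgroupOf H) (K.subgroupOf H) (fun _ => True) ⊔ A.subgroupOf H).map
        H.subtype := by
      refine sup_le ((closure_le _).2 ?_) fun x hx => ⟨⟨x, hA hx⟩, mem_sup_right hx, rfl⟩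
      rintro _ ⟨c, hc, -, k, hk, rfl⟩
      exact ⟨⟨c, hA hc⟩ * ⟨k, hKH hk⟩ * ⟨c, hA hc⟩⁻¹,
        mem_sup_left (subset_closure ⟨⟨c, hA hc⟩, hc, trivial, ⟨k, hKH hk⟩, hk, rfl⟩), rfl⟩
    obtain ⟨g', hg', e⟩ := hle g.2
    rwa [← show g' = g from Subtype.ext e]
  · intro h
    exact hBA fun x hx => h (show (⟨x, hA hx⟩ : H) ∈ A.subgroupOf H from hx)
  · obtain ⟨k, hk, hk1⟩ := hK
    exact ⟨⟨k, hKH hk⟩, hk, hk1⟩
  · intro b hb L hLK hLn hLne hLb
    refine hQ b hb (L.map H.subtype) ?_ ?_ ?_ fun x hx => ⟨_, hLb ⟨x, hKH hx⟩ hx, rfl⟩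
    · rintro _ ⟨l, hl, rfl⟩
      exact hLK hl
    · rintro k hk _ ⟨l, hl, rfl⟩
      exact ⟨_, hLn ⟨k, hKH hk⟩ hk l hl, rfl⟩
    · intro h
      refine hLne (Subgroup.map_injective H.subtype_injective ?_)
      rw [h, subgroupOf_map_subtype, inf_eq_left.2 hKH]
  · rw [card_subgroupOf (hQA.trans hA), card_subgroupOf hA, card_fixA_comp, subgroupOf_map_subtype,
      inf_eq_left.2 hA]
    exact hoff

theorem regular_false_aux [hpf : Fact p.Prime] (N : ℕ) :
    ∀ (Γ : Type u) [Group Γ] [Finite Γ] (A Q K : Subgroup Γ) (U : Type v) [AddCommGroup U] [Finite U]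
      (σ : Γ →* AddMonoid.End U), Nat.card A - Nat.card Q = N → Wr A Q K p → (∀ u : U, p • u = 0) →
      (∀ q ∈ Q, ∀ k ∈ K, q * k = k * q) → (∀ q ∈ Q, σ q = 1) → (∃ k ∈ K, σ k ≠ 1) → ¬ A ≤ Q →
      (∀ H : Subgroup Γ, Q ≤ H → H ≤ A →
        Nat.card H * Nat.card (fixA σ H) ≤ Nat.card A * Nat.card (fixA σ A)) → False := by
  induction N using Nat.strong_induction_on with
  | _ N ih =>
  intro Γ _ _ A Q K U _ _ σ hN hw hp hQc hQ1 hK hne hmax
  have hp' : p.Prime := hpf.out
  haveI : Finite (AddMonoid.End U) := Finite.of_injective _ DFunLike.coe_injective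
  have hfixQ : fixA σ Q = ⊤ := by
    refine (AddSubgroup.eq_top_iff' _).2 fun u q hq => ?_
    rw [hQ1 q hq]; rfl
  have hoff : Nat.card U * Nat.card Q ≤ Nat.card A * Nat.card (fixA σ A) := by
    have h := hmax Q le_rfl hw.le
    rwa [hfixQ, AddSubgroup.card_top, mul_comm] at h
  by_cases hstep : ∃ c ∈ A, c ∉ Q ∧ Q ⊔ zpowers c ≠ A
  · obtain ⟨c, hc, hcQ, hsup⟩ := hstep
    set Q' := Q ⊔ zpowers c with hQ'
    have hQ'A : Q' ≤ A := sup_le hw.le (zpowers_le.2 hc)
    set K' := (hw.diag hc hcQ).range with hK'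
    have hQ'c : Q' ≤ centralizer (K' : Set Γ) := by
      have hgen : ∀ g, (∀ x ∈ K, Commute g ((x * c) ^ p)) → g ∈ centralizer (K' : Set Γ) := fun g hg =>
        mem_centralizer_iff.2 fun _ ⟨x, hx⟩ => by rw [← hx]; exact (hg x x.2).eq.symm
      refine sup_le (fun q hq => hgen q fun x hx => ?_)
        (zpowers_le.2 (hgen c fun x hx => hw.diag_commute_a hc hcQ hx))
      have h := conjBy_prodTo (a := c) (x := x) (hw.comm_A q (hw.le hq) c hc) p
      rw [show q * x * q⁻¹ = x by rw [hQc q hq x hx, mul_inv_cancel_right],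
        prodTo_eq c x (hw.pow_p c hc)] at h
      exact mul_inv_eq_iff_eq_mul.1 h
    have hw' : Wr A Q' K' p :=
      { perfect := by
          have htop : ⁅(⊤ : Subgroup K), (⊤ : Subgroup K)⁆ = ⊤ := by
            apply Subgroup.map_injective K.subtype_injective
            rw [Subgroup.map_commutator, ← MonoidHom.range_eq_map, range_subtype, hw.perfect]
          rw [hK', MonoidHom.range_eq_map, ← Subgroup.map_commutator, htop]
        le := hQ'A
        comm_A := hw.comm_A
        pow_p := hw.pow_p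
        norm := fun b hb k hk => by
          rw [← mem_centralizer_iff.1 (hQ'c hb) k hk, mul_inv_cancel_right]
          exact hk
        comm := by
          rintro a ha haQ' _ ⟨x, rfl⟩ _ ⟨y, rfl⟩
          show Commute (a * ((x : Γ) * c) ^ p * a⁻¹) (((y : Γ) * c) ^ p)
          rw [← prodTo_eq c (x : Γ) (hw.pow_p c hc), conjBy_prodTo (hw.comm_A a ha c hc) p,
            ← prodTo_eq c (y : Γ) (hw.pow_p c hc)]
          refine commute_prodTo fun j _ => Commute.symm (commute_prodTo fun i _ => ?_)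
          rw [show c ^ i * (a * (x : Γ) * a⁻¹) * (c ^ i)⁻¹ = c ^ i * a * (x : Γ) * (c ^ i * a)⁻¹ by group]
          refine (hw.comm_two (mul_mem (pow_mem hc i) ha) (pow_mem hc j) (fun h => haQ' ?_) x.2 y.2).symm
          have e : a = (c ^ i)⁻¹ * c ^ j * ((c ^ i * a)⁻¹ * c ^ j)⁻¹ := by
            rw [mul_inv_rev, inv_inv, mul_assoc, mul_inv_cancel_left, inv_mul_cancel_left]
          rw [e]
          exact mul_mem (mem_sup_right (mul_mem (inv_mem (pow_mem (mem_zpowers c) i)) (pow_mem (mem_zpowers c) j)))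
            (inv_mem (mem_sup_left h)) }
    set Z := centralizer ({c} : Set Γ) with hZ
    have hAZ : A ≤ Z := fun x hx => mem_centralizer_singleton_iff.2 (hw.comm_A x hx c hc)
    have hKZ : K' ≤ Z := fun x hx => mem_centralizer_singleton_iff.2
      (mem_centralizer_iff.1 (hQ'c (mem_sup_right (mem_zpowers c))) x hx)
    let S : AddSubgroup U := fixA σ (zpowers c)
    have hS : ∀ g : Z, ∀ u ∈ S, (σ.comp Z.subtype) g u ∈ S := by
      intro g u hu h hh
      obtain ⟨i, rfl⟩ := mem_zpowers_iff.1 hh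
      show σ (c ^ i) (σ g u) = σ g u
      have hcm : Commute c (g : Γ) := (mem_centralizer_singleton_iff.1 g.2).symm
      rw [← apply_mul, (hcm.zpow_left i).eq, apply_mul, hu _ (zpow_mem (mem_zpowers c) i)]
    let τ := restrictTo (σ.comp Z.subtype) S hS
    -- nontrivial on the fixed points
    have hnt : ∃ k ∈ K'.subgroupOf Z, τ k ≠ 1 := by
      by_contra hall
      push Not at hall
      have hfix : ∀ x ∈ K, ∀ u ∈ S, σ ((x * c) ^ p) u = u := fun x hx u hu =>
        congrArg Subtype.val (DFunLike.congr_fun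
          (hall ⟨_, hKZ ⟨⟨x, hx⟩, rfl⟩⟩ ⟨⟨x, hx⟩, rfl⟩) (⟨u, hu⟩ : S))
      have hkerd : ∀ y ∈ K, σ y = 1 → σ ((y * c) ^ p) = 1 := by
        intro y _ hy
        rw [← prodTo_eq c y (hw.pow_p c hc)]
        have : ∀ n, σ (prodTo c n y) = 1 := by
          intro n
          induction n with
          | zero => rw [prodTo_zero, map_one]
          | succ n ihn =>
            rw [prodTo_succ, map_mul, ihn, one_mul, map_mul, map_mul, hy, mul_one, ← map_mul,
              mul_inv_cancel, map_one]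
        exact this p
      obtain ⟨k, hk, hk1⟩ := hK
      have hd : ∀ x : K, σ (((x : Γ) * c) ^ p) = 1 := fun x => by
        refine map_eq_one_of_pow (σ.comp (hw.diag hc hcQ)) (K := ⊤) ?_ (p := p) (fun x _ => ?_) x (mem_top x)
        · apply Subgroup.map_injective K.subtype_injective
          rw [Subgroup.map_commutator, ← MonoidHom.range_eq_map, range_subtype, hw.perfect]
        have hn : orderOf (x : Γ) ≠ 0 := (orderOf_pos _).ne'
        obtain ⟨e, m, hm, hem⟩ := Nat.exists_eq_pow_mul_and_not_dvd hn p hp'.ne_one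
        refine ⟨e, ?_⟩
        rw [← map_pow]
        refine AddMonoidHom.ext fun u => ?_
        set x' := x ^ p ^ e with hx'
        have hxm : ((x' : K) : Γ) ^ m = 1 := by
          rw [hx', SubgroupClass.coe_pow, ← pow_mul, ← hem, pow_orderOf_eq_one]
        have hdm : σ ((((x' : K) : Γ) * c) ^ p) ^ m = 1 := by
          rw [← map_pow]
          have : ((((x' : K) : Γ) * c) ^ p) ^ m = ((((x' ^ m : K)) : Γ) * c) ^ p :=
            ((hw.diag hc hcQ).map_pow x' m).symm
          rw [this]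
          exact hkerd _ (x' ^ m).2 (by rw [SubgroupClass.coe_pow, hxm, map_one])
        have hcop : m.Coprime p := (hp'.coprime_iff_not_dvd.2 hm).symm
        refine pq_cyclic hp (hw.pow_p c hc) (hw.diag_commute_a hc hcQ x'.2).eq hdm hcop (S := ⊤)
          (fun _ _ => trivial) (fun _ _ => trivial) (fun v _ hcv => hfix _ x'.2 v fun h hh => ?_) u trivial
        exact (show zpowers c ≤ stab σ v from zpowers_le.2 hcv) hh
      refine hk1 (map_eq_one_of_comm σ hw.perfect (fun x hx y hy => ?_) k hk)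
      have hσx : σ x = σ (x⁻¹ * (x * c) ^ p)⁻¹ := by
        have h1 : σ x⁻¹ = σ (x⁻¹ * (x * c) ^ p) := by
          rw [map_mul, hd ⟨x, hx⟩, mul_one]
        simpa using map_inv_congr h1
      rw [hσx, ← map_mul, ← map_mul, (hw.commute_rest hc hcQ hx hy).inv_right.eq]
    refine ih (Nat.card A - Nat.card Q') ?_ Z (A.subgroupOf Z) (Q'.subgroupOf Z) (K'.subgroupOf Z) S τ
      ?_ (hw'.subgroupOf hAZ hKZ) (fun u => Subtype.ext (hp u)) ?_ ?_ hnt ?_ ?_
    · rw [← hN]
      have h1 : Nat.card Q < Nat.card Q' := by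
        refine lt_of_le_of_ne (card_le_of_le le_sup_left) fun e => hcQ ?_
        rw [Subgroup.eq_of_le_of_card_ge (le_sup_left : Q ≤ Q') e.ge]
        exact mem_sup_right (mem_zpowers c)
      have h2 : Nat.card Q' ≤ Nat.card A := card_le_of_le hQ'A
      omega
    · rw [card_subgroupOf hAZ, card_subgroupOf (hQ'A.trans hAZ)]
    · intro q hq k hk
      exact Subtype.ext (mem_centralizer_iff.1 (hQ'c hq) k hk).symm
    · intro q hq
      refine AddMonoidHom.ext fun u => Subtype.ext ?_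
      show σ (q : Γ) (u : U) = u
      refine (show Q' ≤ stab σ (u : U) from sup_le (fun q' hq' => ?_) (fun h hh => u.2 h hh)) hq
      show σ q' (u : U) = u
      rw [hQ1 q' hq']; rfl
    · intro h
      exact hsup (le_antisymm hQ'A fun x hx => h (show (⟨x, hAZ hx⟩ : Z) ∈ A.subgroupOf Z from hx))
    · intro H hQH hHA
      have hfix : ∀ L : Subgroup Z, Q'.subgroupOf Z ≤ L →
          Nat.card (fixA τ L) = Nat.card (fixA σ (L.map Z.subtype)) := by
        intro L hL
        refine Nat.card_congr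
          { toFun := fun u => ⟨(u.1 : U), ?_⟩
            invFun := fun u => ⟨⟨u.1, ?_⟩, ?_⟩
            left_inv := fun u => rfl
            right_inv := fun u => rfl }
        · rintro _ ⟨g, hg, rfl⟩
          exact congrArg Subtype.val (u.2 g hg)
        · intro h hh
          refine u.2 _ ⟨⟨h, ?_⟩, hL ?_, rfl⟩
          · exact (hQ'A.trans hAZ) (mem_sup_right hh)
          · exact (mem_sup_right hh : h ∈ Q')
        · intro g hg
          exact Subtype.ext (u.2 _ ⟨g, hg, rfl⟩)
      rw [hfix H hQH, hfix _ (hQH.trans hHA), card_subgroupOf hAZ, subgroupOf_map_subtype,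
        inf_eq_left.2 hAZ, ← Subgroup.card_map_of_injective Z.subtype_injective (K := H)]
      refine hmax _ ((le_sup_left : Q ≤ Q').trans fun x hx => ?_) ?_
      · exact ⟨⟨x, hQ'A.trans hAZ hx⟩, hQH hx, rfl⟩
      · rintro _ ⟨g, hg, rfl⟩
        exact hHA hg
  -- the base case
  push Not at hstep
  refine hw.false_of_ident' hp ?_ hne hK hw.le (fun b hb _ _ _ _ _ => hb) hoff
  intro a ha haQ x hx
  have hAsup := hstep a ha haQ
  have hQn : Nat.card A ≤ p * Nat.card Q := by
    rw [← hAsup]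
    have hn : zpowers a ≤ normalizer (Q : Set Γ) := zpowers_le.2 (mem_normalizer_fintype fun q hq => by
      show a * q * a⁻¹ ∈ Q
      rw [hw.comm_A a ha q (hw.le hq), mul_inv_cancel_right]; exact hq)
    calc Nat.card (Q ⊔ zpowers a : Subgroup Γ)
        ≤ Nat.card (Q × zpowers a) := Nat.card_le_card_of_surjective
          (fun g => ⟨(g.1 : Γ) * g.2, mul_mem (mem_sup_left g.1.2) (mem_sup_right g.2.2)⟩) fun g => by
            have hg : (g : Γ) ∈ ((Q : Set Γ) * (zpowers a : Set Γ)) := by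
              rw [← coe_mul_of_right_le_normalizer_left Q (zpowers a) hn]
              exact g.2
            obtain ⟨q, hq, z, hz, e⟩ := hg
            exact ⟨(⟨q, hq⟩, ⟨z, hz⟩), Subtype.ext e⟩
      _ = Nat.card Q * Nat.card (zpowers a) := Nat.card_prod _ _
      _ ≤ p * Nat.card Q := by
        rw [mul_comm, Nat.card_zpowers]
        exact Nat.mul_le_mul_right _ (Nat.le_of_dvd hp'.pos (orderOf_dvd_of_pow_eq_one (hw.pow_p a ha)))
  let D : U →+ U := AddMonoidHom.mk' (fun v => σ a v - v) fun v w => by rw [map_add]; abel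
  have hcardL : Nat.card D.range ≤ p := by
    have hker : D.ker = fixA σ A := by
      ext u
      rw [AddMonoidHom.mem_ker]
      show σ a u - u = 0 ↔ _
      rw [sub_eq_zero]
      refine ⟨fun h => ?_, fun h => h a ha⟩
      rw [← hAsup, fixA_sup, hfixQ]
      exact ⟨AddSubgroup.mem_top u, fun g hg => (show zpowers a ≤ stab σ u from zpowers_le.2 h) hg⟩
    rw [← AddSubgroup.index_ker, hker]
    refine Nat.le_of_mul_le_mul_right ?_
      (Nat.mul_pos (Nat.card_pos (α := fixA σ A)) (Nat.card_pos (α := Q)))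
    calc (fixA σ A).index * (Nat.card (fixA σ A) * Nat.card Q)
        = Nat.card U * Nat.card Q := by rw [← mul_assoc, AddSubgroup.index_mul_card]
      _ ≤ Nat.card A * Nat.card (fixA σ A) := hoff
      _ ≤ p * Nat.card Q * Nat.card (fixA σ A) := Nat.mul_le_mul_right _ hQn
      _ = _ := by ring
  have hcomm : ∀ y ∈ K, ∀ v, σ ((y * a) ^ p) (σ a v - v) =
      σ a (σ ((y * a) ^ p) v) - σ ((y * a) ^ p) v := fun y hy v => by
    rw [map_sub, ← apply_mul, ← (hw.diag_commute_a ha haQ hy).eq, apply_mul]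
  let L := D.range
  have hLinv : ∀ g : K, ∀ v ∈ L, (σ.comp (hw.diag ha haQ)) g v ∈ L := by
    rintro g _ ⟨v, rfl⟩
    exact ⟨σ (((g : Γ) * a) ^ p) v, (hcomm g g.2 v).symm⟩
  refine AddMonoidHom.ext fun v => ?_
  show σ ((x * a) ^ p) (σ a v - v) - (σ a v - v) = 0
  rw [sub_eq_zero]
  by_cases hz : σ a v - v = 0
  · rw [hz, map_zero]
  set w := σ a v - v with hwdef
  have hwL : w ∈ L := ⟨v, rfl⟩
  have hord : addOrderOf w = p := addOrderOf_eq_prime (hp w) hz
  have hLw : AddSubgroup.zmultiples w = L := by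
    refine AddSubgroup.eq_of_le_of_card_ge (AddSubgroup.zmultiples_le.2 hwL) ?_
    rw [Nat.card_zmultiples, hord]
    exact hcardL
  let f := restrictTo (σ.comp (hw.diag ha haQ)) L hLinv
  have hf : ∀ y : K, f y = 1 := fun y => by
    refine map_eq_one_of_comm f (K := ⊤) ?_ (fun s _ t _ => AddMonoidHom.ext fun l => Subtype.ext ?_) y (mem_top y)
    · apply Subgroup.map_injective K.subtype_injective
      rw [Subgroup.map_commutator, ← MonoidHom.range_eq_map, range_subtype, hw.perfect]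
    show σ (((s : Γ) * a) ^ p) (σ (((t : Γ) * a) ^ p) (l : U)) = σ (((t : Γ) * a) ^ p) (σ (((s : Γ) * a) ^ p) (l : U))
    obtain ⟨i, hi⟩ : (l : U) ∈ AddSubgroup.zmultiples w := by rw [hLw]; exact l.2
    obtain ⟨j, hj⟩ : σ (((s : Γ) * a) ^ p) w ∈ AddSubgroup.zmultiples w := by rw [hLw]; exact hLinv s w hwL
    obtain ⟨j', hj'⟩ : σ (((t : Γ) * a) ^ p) w ∈ AddSubgroup.zmultiples w := by rw [hLw]; exact hLinv t w hwL
    dsimp only at hi hj hj'
    simp only [← hi, map_zsmul, ← hj, ← hj', smul_smul, mul_comm, mul_left_comm]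
  exact congrArg Subtype.val (DFunLike.congr_fun (hf ⟨x, hx⟩) (⟨w, hwL⟩ : L))

/-- The regular case: elements of `A` outside the centralizer of `K` all move `K`. -/
theorem regular_false [Finite Γ] [Fact p.Prime] {Q : Subgroup Γ} {U : Type v} [AddCommGroup U] [Finite U]
    {σ : Γ →* AddMonoid.End U} (hw : Wr A Q K p) (hp : ∀ u : U, p • u = 0)
    (hQc : ∀ q ∈ Q, ∀ k ∈ K, q * k = k * q) (hQ1 : ∀ q ∈ Q, σ q = 1) (hK : ∃ k ∈ K, σ k ≠ 1)
    (hne : ¬ A ≤ Q) (hmax : ∀ H : Subgroup Γ, Q ≤ H → H ≤ A →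
      Nat.card H * Nat.card (fixA σ H) ≤ Nat.card A * Nat.card (fixA σ A)) : False :=
  regular_false_aux _ Γ A Q K U σ rfl hw hp hQc hQ1 hK hne hmax

end CfsgLib.OffComp
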