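import Cfsg.Agent.Lib.OffComp.Identity

/-!
# Irreducible sections and invariance of the simple constituents
-/

set_option autoImplicit false
set_option linter.style.haveILetI false

open Subgroup
open scoped commutatorElement

namespace CfsgLib.OffComp

universe u v

variable {Γ : Type u} [Group Γ]

/-- Restriction to an invariant subgroup. -/
def restrictTo {U : Type v} [AddCommGroup U] (σ : Γ →* AddMonoid.End U) (P : AddSubgroup U)
    (hP : ∀ g : Γ, ∀ u ∈ P, σ g u ∈ P) : Γ →* AddMonoid.End P where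
  toFun g := ((σ g : U →+ U).comp P.subtype).codRestrict P fun u => hP g u u.2
  map_one' := AddMonoidHom.ext fun u => Subtype.ext (by
    show σ 1 (u : U) = u
    rw [map_one]; rfl)
  map_mul' g h := AddMonoidHom.ext fun u => Subtype.ext (by
    show σ (g * h) (u : U) = σ g (σ h u)
    rw [apply_mul])

/-- The action on a quotient. -/
def quotientAct {U : Type v} [AddCommGroup U] (σ : Γ →* AddMonoid.End U) (P : AddSubgroup U)
    (hP : ∀ g : Γ, ∀ u ∈ P, σ g u ∈ P) : Γ →* AddMonoid.End (U ⧸ P) where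
  toFun g := QuotientAddGroup.map P P (σ g) fun u hu => hP g u hu
  map_one' := AddMonoidHom.ext fun q => QuotientAddGroup.induction_on q fun u => by
    show ((σ 1 u : U) : U ⧸ P) = _
    rw [map_one]; rfl
  map_mul' g h := AddMonoidHom.ext fun q => QuotientAddGroup.induction_on q fun u => by
    show ((σ (g * h) u : U) : U ⧸ P) = _
    rw [apply_mul]; rfl

theorem inv_mem_of_mapsTo {U : Type v} [AddCommGroup U] [Finite U] {σ : Γ →* AddMonoid.End U}
    {S : AddSubgroup U} {x : Γ} (h : ∀ u ∈ S, σ x u ∈ S) : ∀ u ∈ S, σ x⁻¹ u ∈ S := by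
  intro u hu
  have hle : S.map (σ x) ≤ S := by
    rintro _ ⟨w, hw, rfl⟩
    exact h w hw
  have he := AddSubgroup.eq_of_le_of_card_ge hle
    (Nat.card_congr (AddSubgroup.equivMapOfInjective S (σ x) (apply_injective x)).toEquiv).le
  obtain ⟨w, hw, rfl⟩ := he.ge hu
  show σ x⁻¹ (σ x w) ∈ S
  rwa [apply_inv_apply]

/-- The stabilizer of a subgroup of the module. -/
def subStab {U : Type v} [AddCommGroup U] [Finite U] (σ : Γ →* AddMonoid.End U) (S : AddSubgroup U) :
    Subgroup Γ where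
  carrier := {g | ∀ u ∈ S, σ g u ∈ S}
  one_mem' := fun u hu => by rw [map_one]; exact hu
  mul_mem' := fun {x y} hx hy u hu => by rw [apply_mul]; exact hx _ (hy u hu)
  inv_mem' := fun {x} hx => inv_mem_of_mapsTo hx

/-- What passes to sections. -/
def SectionOf {U : Type v} [AddCommGroup U] (σ : Γ →* AddMonoid.End U) {X : Type v} [AddCommGroup X]
    (τ : Γ →* AddMonoid.End X) (A : Subgroup Γ) : Prop :=
  (∀ n : ℕ, (∀ u : U, n • u = 0) → ∀ x : X, n • x = 0) ∧
  (∀ g h, (σ g - 1) * (σ h - 1) = 0 → (τ g - 1) * (τ h - 1) = 0) ∧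
    (∀ g, σ g = 1 → τ g = 1) ∧
    Nat.card X * Nat.card (fixA σ A) ≤ Nat.card U * Nat.card (fixA τ A)

theorem sectionOf_restrict {U : Type v} [AddCommGroup U] [Finite U] (σ : Γ →* AddMonoid.End U)
    (P : AddSubgroup U) (hP : ∀ g : Γ, ∀ u ∈ P, σ g u ∈ P) (A : Subgroup Γ) :
    SectionOf σ (restrictTo σ P hP) A := by
  refine ⟨fun n hn u => Subtype.ext (hn (u : U)), fun g h hgh => AddMonoidHom.ext fun u => Subtype.ext ?_,
    fun g hg => AddMonoidHom.ext fun u => Subtype.ext ?_, ?_⟩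
  · exact DFunLike.congr_fun hgh (u : U)
  · exact DFunLike.congr_fun hg (u : U)
  · have h1 : Nat.card P * Nat.card (fixA σ A) ≤ Nat.card U * Nat.card (fixA σ A ⊓ P : AddSubgroup U) := by
      have hr : (fixA σ A).relIndex P ≤ (fixA σ A).index :=
        Nat.le_of_dvd (Nat.pos_of_ne_zero AddSubgroup.index_ne_zero_of_finite)
          (AddSubgroup.relIndex_dvd_index_of_normal _ _)
      have e1 : (fixA σ A).relIndex P * Nat.card (fixA σ A ⊓ P : AddSubgroup U) = Nat.card P := by
        rw [← AddSubgroup.inf_relIndex_right, mul_comm, ← AddSubgroup.relIndex_bot_left,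
          AddSubgroup.relIndex_mul_relIndex _ _ _ bot_le inf_le_right, AddSubgroup.relIndex_bot_left]
      rw [← e1, ← (fixA σ A).card_mul_index]
      calc (fixA σ A).relIndex P * Nat.card (fixA σ A ⊓ P : AddSubgroup U) * Nat.card (fixA σ A)
          ≤ (fixA σ A).index * Nat.card (fixA σ A ⊓ P : AddSubgroup U) * Nat.card (fixA σ A) := by gcongr
        _ = _ := by ring
    refine h1.trans (Nat.mul_le_mul_left _ ?_)
    refine Nat.card_le_card_of_injective
      (fun u => ⟨⟨u.1, u.2.2⟩, fun a ha => Subtype.ext (u.2.1 a ha)⟩) fun a b hab => ?_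
    exact Subtype.ext (congrArg (fun w => w.1.1) hab)

theorem sectionOf_quotient {U : Type v} [AddCommGroup U] [Finite U] (σ : Γ →* AddMonoid.End U)
    (P : AddSubgroup U) (hP : ∀ g : Γ, ∀ u ∈ P, σ g u ∈ P) (A : Subgroup Γ) :
    SectionOf σ (quotientAct σ P hP) A := by
  refine ⟨fun n hn q => QuotientAddGroup.induction_on q fun u => congrArg (QuotientAddGroup.mk' P) (hn u),
    fun g h hgh => ?_, fun g hg => ?_, ?_⟩
  · refine AddMonoidHom.ext fun q => ?_
    induction q using QuotientAddGroup.induction_on with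
    | H u => exact congrArg (QuotientAddGroup.mk' P) (DFunLike.congr_fun hgh u)
  · refine AddMonoidHom.ext fun q => ?_
    induction q using QuotientAddGroup.induction_on with
    | H u => exact congrArg (QuotientAddGroup.mk' P) (DFunLike.congr_fun hg u)
  · have h1 : (fixA σ A).map (QuotientAddGroup.mk' P) ≤ fixA (quotientAct σ P hP) A := by
      rintro _ ⟨u, hu, rfl⟩ a ha
      exact congrArg (QuotientAddGroup.mk' P) (hu a ha)
    have h2 : Nat.card (fixA σ A) ≤ Nat.card ((fixA σ A).map (QuotientAddGroup.mk' P)) * Nat.card P := by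
      have e1 : P.relIndex (fixA σ A) = Nat.card ((fixA σ A).map (QuotientAddGroup.mk' P)) := by
        rw [← AddSubgroup.relIndex_ker, QuotientAddGroup.ker_mk']
      have e2 : P.relIndex (fixA σ A) * Nat.card (fixA σ A ⊓ P : AddSubgroup U) = Nat.card (fixA σ A) := by
        rw [← AddSubgroup.inf_relIndex_left, mul_comm, ← AddSubgroup.relIndex_bot_left,
          AddSubgroup.relIndex_mul_relIndex _ _ _ bot_le inf_le_left, AddSubgroup.relIndex_bot_left]
      rw [← e2, e1]
      exact Nat.mul_le_mul_left _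
        (Nat.card_le_card_of_injective _ (AddSubgroup.inclusion_injective (inf_le_right : fixA σ A ⊓ P ≤ P)))
    have h3 := Nat.card_le_card_of_injective _ (AddSubgroup.inclusion_injective h1)
    rw [AddSubgroup.card_eq_card_quotient_mul_card_addSubgroup P, mul_assoc]
    refine Nat.mul_le_mul_left _ ?_
    calc Nat.card (fixA σ A) ≤ _ := h2
      _ ≤ Nat.card (fixA (quotientAct σ P hP) A) * Nat.card P := Nat.mul_le_mul_right _ h3
      _ = _ := mul_comm _ _

theorem exists_irreducible_aux {K : Subgroup Γ} (hK : ⁅K, K⁆ = K) (A : Subgroup Γ) (N : ℕ) :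
    ∀ (U : Type v) [AddCommGroup U] [Finite U] (σ : Γ →* AddMonoid.End U), Nat.card U = N →
      (∃ k ∈ K, σ k ≠ 1) →
      ∃ (X : Type v) (_ : AddCommGroup X) (_ : Finite X) (τ : Γ →* AddMonoid.End X),
        Irr τ ⊤ ∧ (∃ k ∈ K, τ k ≠ 1) ∧ SectionOf σ τ A := by
  induction N using Nat.strong_induction_on with
  | _ N ih =>
  intro U _ _ σ hN hk
  by_cases hirr : Irr σ ⊤
  · exact ⟨U, inferInstance, inferInstance, σ, hirr, hk, fun n e => e, fun g h e => e, fun g e => e,
      le_rfl⟩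
  unfold Irr at hirr
  push Not at hirr
  obtain ⟨P, hP', hPb, hPt⟩ := hirr
  have hP : ∀ g : Γ, ∀ u ∈ P, σ g u ∈ P := fun g => hP' g (mem_top g)
  obtain ⟨x, hx0, hxP⟩ : ∃ x, x ≠ 0 ∧ x ∈ P := by
    by_contra h
    push Not at h
    refine hPb ((AddSubgroup.eq_bot_iff_forall _).2 fun x hx => ?_)
    by_contra hne
    exact h x hne hx
  obtain ⟨y, hy⟩ : ∃ y, y ∉ P := by
    by_contra h
    push Not at h
    exact hPt ((AddSubgroup.eq_top_iff' P).2 h)
  have comp : ∀ (X : Type v) [AddCommGroup X] [Finite X] (τ : Γ →* AddMonoid.End X), Nat.card X < N →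
      SectionOf σ τ A → (∃ k ∈ K, τ k ≠ 1) →
      ∃ (Y : Type v) (_ : AddCommGroup Y) (_ : Finite Y) (η : Γ →* AddMonoid.End Y),
        Irr η ⊤ ∧ (∃ k ∈ K, η k ≠ 1) ∧ SectionOf σ η A := by
    intro X _ _ τ hlt hs hne
    obtain ⟨Y, _, _, η, h1, h2, h3⟩ := ih _ hlt X τ rfl hne
    refine ⟨Y, inferInstance, inferInstance, η, h1, h2, fun n e => h3.1 n (hs.1 n e),
      fun g h e => h3.2.1 g h (hs.2.1 g h e), fun g e => h3.2.2.1 g (hs.2.2.1 g e), ?_⟩
    have hX : 0 < Nat.card X := Nat.card_pos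
    refine Nat.le_of_mul_le_mul_right ?_ hX
    calc Nat.card Y * Nat.card (fixA σ A) * Nat.card X
        = Nat.card Y * (Nat.card X * Nat.card (fixA σ A)) := by ring
      _ ≤ Nat.card Y * (Nat.card U * Nat.card (fixA τ A)) := Nat.mul_le_mul_left _ hs.2.2.2
      _ = Nat.card U * (Nat.card Y * Nat.card (fixA τ A)) := by ring
      _ ≤ Nat.card U * (Nat.card X * Nat.card (fixA η A)) := Nat.mul_le_mul_left _ h3.2.2.2
      _ = _ := by ring
  have hPlt : Nat.card P < N := by
    rw [← hN]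
    refine lt_of_le_of_ne (Nat.card_le_card_of_injective _ Subtype.val_injective) fun e => ?_
    exact hy ((AddSubgroup.eq_top_of_card_eq P e).symm ▸ AddSubgroup.mem_top y)
  have hQlt : Nat.card (U ⧸ P) < N := by
    rw [← hN, AddSubgroup.card_eq_card_quotient_mul_card_addSubgroup P]
    refine lt_mul_of_one_lt_right Nat.card_pos ?_
    haveI : Nontrivial P := ⟨⟨⟨x, hxP⟩, 0, fun e => hx0 (congrArg Subtype.val e)⟩⟩
    exact Finite.one_lt_card
  by_cases h1 : ∃ k ∈ K, restrictTo σ P hP k ≠ 1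
  · exact comp P _ hPlt (sectionOf_restrict σ P hP A) h1
  by_cases h2 : ∃ k ∈ K, quotientAct σ P hP k ≠ 1
  · exact comp (U ⧸ P) _ hQlt (sectionOf_quotient σ P hP A) h2
  exfalso
  push Not at h1 h2
  obtain ⟨k, hk, hk1⟩ := hk
  refine hk1 (map_eq_one_of_comm σ hK (fun a ha b hb => AddMonoidHom.ext fun u => ?_) k hk)
  have hd : ∀ c ∈ K, σ c u - u ∈ P := fun c hc => by
    have h := DFunLike.congr_fun (h2 c hc) (u : U ⧸ P)
    exact (QuotientAddGroup.eq_iff_sub_mem).1 h
  have hfix : ∀ c ∈ K, ∀ w ∈ P, σ c w = w := fun c hc w hw =>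
    congrArg Subtype.val (DFunLike.congr_fun (h1 c hc) (⟨w, hw⟩ : P))
  have e1 := hfix a ha _ (hd b hb)
  have e2 := hfix b hb _ (hd a ha)
  rw [map_sub] at e1 e2
  show σ a (σ b u) = σ b (σ a u)
  rw [eq_add_of_sub_eq e1, eq_add_of_sub_eq e2]
  abel

/-- An irreducible section on which `K` is nontrivial. -/
theorem exists_irreducible {K : Subgroup Γ} (hK : ⁅K, K⁆ = K) (A : Subgroup Γ) {U : Type v}
    [AddCommGroup U] [Finite U] (σ : Γ →* AddMonoid.End U) (hk : ∃ k ∈ K, σ k ≠ 1) :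
    ∃ (X : Type v) (_ : AddCommGroup X) (_ : Finite X) (τ : Γ →* AddMonoid.End X),
      Irr τ ⊤ ∧ (∃ k ∈ K, τ k ≠ 1) ∧ SectionOf σ τ A :=
  exists_irreducible_aux hK A _ U σ rfl hk

variable {A B K : Subgroup Γ} {p : ℕ} {X : Type v} [AddCommGroup X] {τ : Γ →* AddMonoid.End X}

theorem conj_mem_conjGen (hw : Wr A B K p) {a g : Γ} (ha : a ∈ A)
    (hg : g ∈ conjGen A K fun _ => True) : a * g * a⁻¹ ∈ conjGen A K fun _ => True := by
  rw [conjGen] at hg ⊢
  induction hg using closure_induction with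
  | mem x hx =>
    obtain ⟨c, hc, -, k, hk, rfl⟩ := hx
    exact subset_closure ⟨a * c, mul_mem ha hc, trivial, k, hk, by group⟩
  | one => rw [mul_one, mul_inv_cancel]; exact one_mem _
  | mul x y _ _ hx hy => rw [show a * (x * y) * a⁻¹ = a * x * a⁻¹ * (a * y * a⁻¹) by group]; exact mul_mem hx hy
  | inv x _ hx => rw [show a * x⁻¹ * a⁻¹ = (a * x * a⁻¹)⁻¹ by group]; exact inv_mem hx

theorem Wr.le_conjGen (_hw : Wr A B K p) : K ≤ conjGen A K fun _ => True := fun k hk =>
  subset_closure ⟨1, one_mem A, trivial, k, hk, by group⟩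

/-- An irreducible module stays irreducible for the conjugates of `K`. -/
theorem Wr.irr_conjGen (hw : Wr A B K p) [Fact p.Prime] [Finite X] (hid : Ident τ A B K p)
    (hgen : conjGen A K (fun _ => True) ⊔ A = ⊤) (hirr : Irr τ ⊤) (hK : ∃ k ∈ K, τ k ≠ 1)
    (hBA : ¬ A ≤ B) : Irr τ (conjGen A K fun _ => True) := by
  set N := conjGen A K fun _ => True with hN
  intro S hS
  by_contra hne
  rw [not_or] at hne
  obtain ⟨P, ⟨hP, hPb⟩, hPmin⟩ := (Set.toFinite {P : AddSubgroup X |
    (∀ g ∈ N, ∀ u ∈ P, τ g u ∈ P) ∧ P ≠ ⊥}).exists_minimal ⟨S, hS, hne.1⟩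
  let tr : Γ → AddSubgroup X := fun a => P.map (τ a)
  have hinv : ∀ a ∈ A, ∀ g ∈ N, ∀ u ∈ tr a, τ g u ∈ tr a := by
    rintro a ha g hg _ ⟨u, hu, rfl⟩
    refine ⟨τ (a⁻¹ * g * a) u, hP _ (by simpa using conj_mem_conjGen hw (inv_mem ha) hg) u hu, ?_⟩
    show τ a (τ (a⁻¹ * g * a) u) = τ g (τ a u)
    rw [← apply_mul, ← apply_mul, show a * (a⁻¹ * g * a) = g * a by group]
  -- the sum of the translates is everything
  have hsum : (⨆ a : A, tr a) = ⊤ := by
    refine (hirr (⨆ a : A, tr a) fun g _ u hu => ?_).resolve_left ?_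
    · have hg : g ∈ N ⊔ A := hgen ▸ mem_top g
      refine (sup_le (fun x hx => ?_) (fun x hx => ?_) : N ⊔ A ≤ subStab τ (⨆ a : A, tr a)) hg u hu
      · intro u hu
        induction hu using AddSubgroup.iSup_induction' with
        | hp a w hw' => exact AddSubgroup.mem_iSup_of_mem a (hinv a a.2 x hx w hw')
        | h1 => rw [map_zero]; exact zero_mem _
        | hadd w z _ _ e1 e2 => rw [map_add]; exact add_mem e1 e2
      · intro u hu
        induction hu using AddSubgroup.iSup_induction' with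
        | hp a w hw' =>
          obtain ⟨v, hv, rfl⟩ := hw'
          refine AddSubgroup.mem_iSup_of_mem (⟨x, hx⟩ * a) ⟨v, hv, ?_⟩
          show τ (x * a) v = τ x (τ a v)
          rw [apply_mul]
        | h1 => rw [map_zero]; exact zero_mem _
        | hadd w z _ _ e1 e2 => rw [map_add]; exact add_mem e1 e2
    · intro e
      refine hPb (le_bot_iff.1 fun u hu => ?_)
      refine e.le (AddSubgroup.mem_iSup_of_mem (1 : A) ⟨u, hu, ?_⟩)
      show τ ((1 : A) : Γ) u = u
      rw [OneMemClass.coe_one, map_one]; rfl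
  -- `K` is nontrivial on some translate
  obtain ⟨a₀, ha₀, hnt⟩ : ∃ a₀ ∈ A, ∃ k ∈ K, ∃ u ∈ tr a₀, τ k u ≠ u := by
    by_contra h
    push Not at h
    obtain ⟨k, hk, hk1⟩ := hK
    refine hk1 (AddMonoidHom.ext fun u => ?_)
    have hu : u ∈ (⨆ a : A, tr a) := hsum ▸ AddSubgroup.mem_top u
    show τ k u = u
    induction hu using AddSubgroup.iSup_induction' with
    | hp a w hw' => exact h a a.2 k hk w hw'
    | h1 => exact map_zero (τ k)
    | hadd w z _ _ e1 e2 => rw [map_add, e1, e2]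
  set P' := tr a₀ with hP'
  have hP'min : ∀ T : AddSubgroup X, T ≤ P' → (∀ g ∈ N, ∀ u ∈ T, τ g u ∈ T) → T = ⊥ ∨ T = P' := by
    intro T hTP hT
    by_cases hTb : T = ⊥
    · exact Or.inl hTb
    right
    have hle : T.map (τ a₀⁻¹) ≤ P := by
      rintro _ ⟨t, ht, rfl⟩
      obtain ⟨u, hu, rfl⟩ := hTP ht
      show τ a₀⁻¹ (τ a₀ u) ∈ P
      rwa [apply_inv_apply]
    have := hPmin (y := T.map (τ a₀⁻¹)) ⟨?_, ?_⟩ hle
    · refine le_antisymm hTP ?_
      rintro _ ⟨u, hu, rfl⟩
      obtain ⟨t, ht, rfl⟩ := this hu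
      show τ a₀ (τ a₀⁻¹ t) ∈ T
      rwa [apply_apply_inv]
    · rintro g hg _ ⟨t, ht, rfl⟩
      refine ⟨τ (a₀ * g * a₀⁻¹) t, hT _ (conj_mem_conjGen hw ha₀ hg) t ht, ?_⟩
      show τ a₀⁻¹ (τ (a₀ * g * a₀⁻¹) t) = τ g (τ a₀⁻¹ t)
      rw [← apply_mul, ← apply_mul, show a₀⁻¹ * (a₀ * g * a₀⁻¹) = g * a₀⁻¹ by group]
    · intro e
      refine hTb (le_bot_iff.1 fun t ht => ?_)
      have h0 : τ a₀⁻¹ t = 0 := AddSubgroup.mem_bot.1 (e ▸ ⟨t, ht, rfl⟩)
      exact AddSubgroup.mem_bot.2 ((apply_injective a₀⁻¹) (h0.trans (map_zero _).symm))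
  have hP'inv := hinv a₀ ha₀
  -- all elements outside `B` stabilize it
  have houtside : ∀ a ∈ A, a ∉ B → ∀ u ∈ P', τ a u ∈ P' := by
    intro a ha haB
    by_contra hmove
    push Not at hmove
    obtain ⟨u₁, hu₁, hu₁'⟩ := hmove
    have hTinv : ∀ g ∈ N, ∀ u ∈ P'.map (τ a), τ g u ∈ P'.map (τ a) := by
      rintro g hg _ ⟨u, hu, rfl⟩
      refine ⟨τ (a⁻¹ * g * a) u, hP'inv _ (by simpa using conj_mem_conjGen hw (inv_mem ha) hg) u hu, ?_⟩
      show τ a (τ (a⁻¹ * g * a) u) = τ g (τ a u)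
      rw [← apply_mul, ← apply_mul, show a * (a⁻¹ * g * a) = g * a by group]
    have hdisj : P' ⊓ P'.map (τ a) = ⊥ := by
      refine (hP'min _ inf_le_left fun g hg u hu => ⟨hP'inv g hg u hu.1, hTinv g hg u hu.2⟩).resolve_right
        fun e => ?_
      have hle : P' ≤ P'.map (τ a) := inf_eq_left.1 e
      have he : P' = P'.map (τ a) := AddSubgroup.eq_of_le_of_card_ge hle (by
        rw [Nat.card_congr (AddSubgroup.equivMapOfInjective P' (τ a) (apply_injective a)).toEquiv])
      exact hu₁' (he.ge ⟨u₁, hu₁, rfl⟩)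
    have hd : ∀ x ∈ K, ∀ u ∈ P', τ ((x * a) ^ p) u = u := by
      intro x hx u hu
      have hdN : (x * a) ^ p ∈ N := by
        rw [← prodTo_eq a x (hw.pow_p a ha)]
        have : ∀ n, prodTo a n x ∈ N := by
          intro n
          induction n with
          | zero => rw [prodTo_zero]; exact one_mem _
          | succ n ih =>
            rw [prodTo_succ]
            exact mul_mem ih (conj_mem_conjGen hw (pow_mem ha n) (hw.le_conjGen hx))
        exact this p
      have h0 := DFunLike.congr_fun (hid a ha haB x hx) u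
      have e : τ ((x * a) ^ p) (τ a u - u) - (τ a u - u) = 0 := h0
      rw [map_sub] at e
      have h1 : τ ((x * a) ^ p) u - u ∈ P' ⊓ P'.map (τ a) := by
        refine AddSubgroup.mem_inf.2 ⟨sub_mem (hP'inv _ hdN u hu) hu, ?_⟩
        have : τ ((x * a) ^ p) u - u = τ ((x * a) ^ p) (τ a u) - τ a u := by
          rw [← sub_eq_zero, ← neg_eq_zero, ← e]; abel
        rw [this]
        exact sub_mem (hTinv _ hdN _ ⟨u, hu, rfl⟩) ⟨u, hu, rfl⟩
      rw [hdisj] at h1
      exact sub_eq_zero.1 (AddSubgroup.mem_bot.1 h1)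
    obtain ⟨k, hk, u₂, hu₂, hmoved⟩ := hnt
    let S : Subgroup Γ := N
    let f := restrictTo (τ.comp N.subtype) P' fun g => hP'inv g g.2
    refine hmoved ?_
    have h := map_eq_one_of_comm f (K := K.subgroupOf N) ?_ ?_ ⟨k, hw.le_conjGen hk⟩ hk
    · exact congrArg Subtype.val (DFunLike.congr_fun h ⟨u₂, hu₂⟩)
    · apply Subgroup.map_injective N.subtype_injective
      rw [Subgroup.map_commutator, subgroupOf_map_subtype, inf_eq_left.2 hw.le_conjGen, hw.perfect]
    · rintro ⟨x, hxN⟩ hx ⟨y, hyN⟩ hy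
      refine AddMonoidHom.ext fun u => Subtype.ext ?_
      show τ x (τ y (u : X)) = τ y (τ x (u : X))
      have hcomm : Commute y (x⁻¹ * (x * a) ^ p) := by
        have hpp : p.Prime := Fact.out
        have hall : ∀ n, n ≤ p → 1 ≤ n → Commute y (x⁻¹ * prodTo a n x) := by
          intro n hn h1
          induction n with
          | zero => omega
          | succ n ih =>
            rw [prodTo_succ, ← mul_assoc]
            rcases Nat.eq_zero_or_pos n with rfl | hpos
            · simp [prodTo_zero]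
            · refine (ih (by omega) hpos).mul_right ?_
              simpa using hw.comm_idx ha haB (i := 0) (j := n) hpp.pos (by omega) (by omega) hy hx
        rw [← prodTo_eq a x (hw.pow_p a ha)]
        exact hall p le_rfl hpp.one_lt.le
      have key : ∀ w ∈ P', τ x w = τ ((x⁻¹ * (x * a) ^ p))⁻¹ w := by
        intro w hw'
        rw [mul_inv_rev, inv_inv, apply_mul]
        conv_rhs => rw [← hd x hx (τ x w) (hP'inv x hxN w hw'), apply_inv_apply]
      rw [key (u : X) u.2, key _ (hP'inv y hyN _ u.2), ← apply_mul, ← apply_mul, hcomm.inv_right.eq]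
  have hstab : ∀ g ∈ A, ∀ u ∈ P', τ g u ∈ P' := by
    obtain ⟨a₁, ha₁, ha₁B⟩ := SetLike.not_le_iff_exists.1 hBA
    intro g hg u hu
    by_cases hgB : g ∈ B
    · rw [show g = (g * a₁⁻¹) * a₁ by group, apply_mul]
      refine houtside _ (mul_mem hg (inv_mem ha₁)) (fun h => ha₁B ?_) _ (houtside a₁ ha₁ ha₁B u hu)
      simpa using inv_mem (mul_mem (inv_mem hgB) h)
    · exact houtside g hg hgB u hu
  have hPtop : P' = ⊤ := by
    refine (hirr P' fun g _ u hu => ?_).resolve_left fun e => ?_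
    · have hg : g ∈ N ⊔ A := hgen ▸ mem_top g
      have : N ⊔ A ≤ subStab τ P' := sup_le hP'inv hstab
      exact this hg u hu
    · obtain ⟨k, hk, u, hu, hne'⟩ := hnt
      rw [e, AddSubgroup.mem_bot] at hu
      exact hne' (by rw [hu, map_zero])
  rcases hP'min S (hPtop ▸ le_top) hS with h | h
  · exact hne.1 h
  · exact hne.2 (h.trans hPtop)

end CfsgLib.OffComp
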